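import Cfsg.Agent.Lib.TriThree76.Fields
import Cfsg.Agent.Lib.NumberTheory.Zsigmondy
import Cfsg.Agent.S2904

/-!
# Elements of primitive prime order

An element of primitive prime order `r` modulo `p ^ f` is irreducible; elementary abelian 2-groups
normalised by it consist of `±1`, and its centraliser is commutative.
-/

set_option autoImplicit false
set_option linter.unusedSectionVars false
set_option linter.style.haveILetI false

namespace Cfsg.Agent.Lib.TriThree76

universe u v

variable {D : Type u} {V : Type v} [Group D] [AddCommGroup V] [Finite V] [DistribMulAction D V]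
  [FaithfulSMul D V] {p f r : ℕ}

/-- No invariant subgroups. -/
def IsIrr (D : Type u) (V : Type v) [Group D] [AddCommGroup V] [DistribMulAction D V] (z : D) : Prop :=
  ∀ W : AddSubgroup V, (∀ w ∈ W, z • w ∈ W) → W = ⊥ ∨ W = ⊤

/-- The arithmetic of a primitive prime. -/
structure Ppd (p f r : ℕ) : Prop where
  prime : r.Prime
  dvd : r ∣ p ^ f - 1
  not_dvd : ∀ k, 0 < k → k < f → ¬ r ∣ p ^ k - 1

theorem exists_ppd (hp : p.Prime) (hp2 : p ≠ 2) (hf : 1 < f) (hodd : Odd f) : ∃ r, Ppd p f r := by
  obtain ⟨r, hr, hd, hn⟩ := S2904.result p f hp.one_lt hf (fun h => hp2 h.1)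
    (fun h => Nat.not_odd_iff_even.2 (h.1 ▸ even_two) hodd)
  exact ⟨r, hr, hd, hn⟩

omit [Finite V] in
theorem Ppd.ne_char (h : Ppd p f r) (hp : p.Prime) (hf : 0 < f) : r ≠ p := by
  rintro rfl
  have h1 : r ∣ r ^ f := dvd_pow_self r hf.ne'
  have h2 : 1 ≤ r ^ f := Nat.one_le_pow _ _ hp.pos
  have h3 := Nat.dvd_sub h1 h.dvd
  rw [Nat.sub_sub_self h2, Nat.dvd_one] at h3
  exact hp.one_lt.ne' h3

omit [Finite V] in
theorem Ppd.gt (h : Ppd p f r) (hp : p.Prime) (hf : 0 < f) : f < r := by
  by_contra! hle
  haveI := Fact.mk h.prime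
  have hne := h.ne_char hp hf
  have h1 : ((p : ℕ) : ZMod r) ≠ 0 := by
    rw [Ne, ZMod.natCast_eq_zero_iff]
    exact fun hd => hne ((Nat.prime_dvd_prime_iff_eq h.prime hp).1 hd)
  have h2 := ZMod.pow_card_sub_one_eq_one h1
  have h3 : r ∣ p ^ (r - 1) - 1 := by
    rw [← Nat.modEq_iff_dvd' (Nat.one_le_pow _ _ hp.pos), ← ZMod.natCast_eq_natCast_iff]
    push_cast
    exact h2.symm
  exact h.not_dvd (r - 1) (by have := h.prime.two_le; omega)
    (by have := h.prime.pos; omega) h3

/-- A subgroup of an elementary group whose order is congruent to one is trivial or everything. -/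
theorem Ppd.eq_zero_or (h : Ppd p f r) (hp : p.Prime) {j : ℕ} (hj : j ≤ f)
    (hmod : p ^ f ≡ p ^ j [MOD r]) (hf : 0 < f) : j = 0 ∨ j = f := by
  by_contra! hne
  have h1 : r ∣ p ^ f - p ^ j := (Nat.modEq_iff_dvd' (Nat.pow_le_pow_right hp.pos hj)).1 hmod.symm
  rw [show p ^ f = p ^ j * p ^ (f - j) from by rw [← pow_add, Nat.add_sub_cancel' hj],
    show p ^ j * p ^ (f - j) - p ^ j = p ^ j * (p ^ (f - j) - 1) from
      (Nat.mul_sub_one _ _).symm] at h1
  rcases h.prime.dvd_mul.1 h1 with h2 | h2
  · exact h.ne_char hp hf ((Nat.prime_dvd_prime_iff_eq h.prime hp).1 (h.prime.dvd_of_dvd_pow h2))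
  · exact h.not_dvd (f - j) (by omega) (by omega) h2

/-- An element of primitive prime order is irreducible. -/
theorem Ppd.isIrr [Finite D] (h : Ppd p f r) (hp : p.Prime) (hf : 0 < f) (hcard : Nat.card V = p ^ f) {z : D}
    (hz : orderOf z = r) : IsIrr D V z := by
  haveI := Fact.mk h.prime
  haveI := Fact.mk hp
  have hzp : IsPGroup r (Subgroup.zpowers z) :=
    IsPGroup.of_card (n := 1) (by rw [Nat.card_zpowers, hz, pow_one])
  -- semiregularity
  have hfree : ∀ v : V, z • v = v → v = 0 := by
    let Fx : AddSubgroup V :=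
      { carrier := {v | z • v = v}
        zero_mem' := smul_zero z
        add_mem' := fun {a b} ha hb => by
          show z • (a + b) = a + b
          rw [smul_add, ha, hb]
        neg_mem' := fun {a} ha => by
          show z • (-a) = -a
          rw [smul_neg, ha] }
    have hd : Nat.card Fx ∣ p ^ f := hcard ▸ AddSubgroup.card_addSubgroup_dvd_card Fx
    obtain ⟨j, hj, hcj⟩ := (Nat.dvd_prime_pow hp).1 hd
    have hmod := hzp.card_modEq_card_fixedPoints (α := V)
    have hfix : Nat.card (MulAction.fixedPoints (Subgroup.zpowers z) V) = p ^ j := by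
      rw [← hcj]
      refine Nat.card_congr (Equiv.subtypeEquivRight fun v => ⟨fun hv => ?_, fun hv g => ?_⟩)
      · exact hv ⟨z, Subgroup.mem_zpowers z⟩
      · obtain ⟨g, hg⟩ := g
        have : g ∈ MulAction.stabilizer D v :=
          (Subgroup.zpowers_le.2 (show z ∈ MulAction.stabilizer D v from hv)) hg
        exact this
    rw [hcard, hfix] at hmod
    rcases h.eq_zero_or hp hj hmod hf with rfl | rfl
    · intro v hv
      rw [pow_zero] at hcj
      haveI : Subsingleton Fx := (Nat.card_eq_one_iff_unique.1 hcj).1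
      exact congrArg Subtype.val (Subsingleton.elim (⟨v, hv⟩ : Fx) 0)
    · exfalso
      have htop : Fx = ⊤ := AddSubgroup.eq_top_of_card_eq Fx (hcj.trans hcard.symm)
      have : z = 1 := eq_of_smul_eq_smul fun v : V => by
        rw [one_smul]
        exact (htop ▸ AddSubgroup.mem_top v : v ∈ Fx)
      rw [this, orderOf_one] at hz
      exact h.prime.one_lt.ne' hz.symm
  intro W hW
  have hd : Nat.card W ∣ p ^ f := hcard ▸ AddSubgroup.card_addSubgroup_dvd_card W
  obtain ⟨j, hj, hcj⟩ := (Nat.dvd_prime_pow hp).1 hd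
  have hWz : ∀ g ∈ Subgroup.zpowers z, ∀ w ∈ W, g • w ∈ W := by
    intro g hg
    obtain ⟨k, rfl⟩ := (mem_powers_iff_mem_zpowers).2 hg
    induction k with
    | zero => intro w hw; simpa using hw
    | succ k ih =>
      intro w hw
      show z ^ (k + 1) • w ∈ W
      rw [pow_succ, mul_smul]
      exact ih (mem_powers_iff_mem_zpowers.1 ⟨k, rfl⟩) _ (hW w hw)
  letI : MulAction (Subgroup.zpowers z) W :=
    { smul := fun g w => ⟨(g : D) • (w : V), hWz g g.2 w w.2⟩
      one_smul := fun w => Subtype.ext (one_smul D (w : V))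
      mul_smul := fun g h w => Subtype.ext (mul_smul (g : D) (h : D) (w : V)) }
  have hmod := hzp.card_modEq_card_fixedPoints (α := W)
  have hfix : Nat.card (MulAction.fixedPoints (Subgroup.zpowers z) W) = 1 := by
    rw [Nat.card_eq_one_iff_unique]
    refine ⟨⟨fun a b => Subtype.ext (Subtype.ext ?_)⟩, ⟨⟨0, fun g => Subtype.ext (smul_zero _)⟩⟩⟩
    have e : ∀ c : MulAction.fixedPoints (Subgroup.zpowers z) W, ((c : W) : V) = 0 := fun c =>
      hfree _ (congrArg Subtype.val (c.2 ⟨z, Subgroup.mem_zpowers z⟩))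
    rw [e a, e b]
  rw [hcj, hfix] at hmod
  have h1 : r ∣ p ^ j - 1 := (Nat.modEq_iff_dvd' (Nat.one_le_pow _ _ hp.pos)).1 hmod.symm
  rcases Nat.eq_zero_or_pos j with rfl | hj0
  · exact Or.inl (AddSubgroup.eq_bot_of_card_eq W (by rw [hcj, pow_zero]))
  · rcases lt_or_eq_of_le hj with hlt | rfl
    · exact absurd h1 (h.not_dvd j hj0 hlt)
    · exact Or.inr (AddSubgroup.eq_top_of_card_eq W (hcj.trans hcard.symm))

/-- The ring generated by an irreducible element has no kernel. -/
theorem IsIrr.exists_ring {z : D} (hz : IsIrr D V z) :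
    ∃ A : Subring (AddMonoid.End V), (∀ x ∈ A, ∀ y ∈ A, x * y = y * x) ∧ NoKer A ∧ toEnd z ∈ A ∧
      (∀ g : D, g * z = z * g → ∀ a ∈ A, ∀ v : V, g • a v = a (g • v)) ∧
      (∀ g : D, toEnd (g * z * g⁻¹) ∈ A → ∀ a ∈ A, toEnd g * a * toEnd g⁻¹ ∈ A) := by
  set A := Subring.closure ({toEnd z} : Set (AddMonoid.End V)) with hA
  have hcomm : ∀ x ∈ A, ∀ y ∈ A, x * y = y * x := by
    intro x hx y hy
    have hs : ∀ a ∈ ({toEnd z} : Set (AddMonoid.End V)), ∀ b ∈ ({toEnd z} : Set (AddMonoid.End V)),
        a * b = b * a := by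
      intro a ha b hb
      rw [Set.mem_singleton_iff] at ha hb
      rw [ha, hb]
    exact congrArg Subtype.val ((Subring.isMulCommutative_closure hs).is_comm.comm ⟨x, hx⟩ ⟨y, hy⟩)
  have hzA : toEnd z ∈ A := Subring.subset_closure rfl
  refine ⟨A, hcomm, ?_, hzA, ?_, ?_⟩
  · intro a ha v hv hav
    let K : AddSubgroup V :=
      { carrier := {w | a w = 0}
        zero_mem' := map_zero a
        add_mem' := fun {x y} hx hy => by
          show a (x + y) = 0
          rw [map_add, show a x = 0 from hx, show a y = 0 from hy, add_zero]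
        neg_mem' := fun {x} hx => by
          show a (-x) = 0
          rw [map_neg, show a x = 0 from hx, neg_zero] }
    rcases hz K (fun w hw => by
        have := congrArg (fun l : AddMonoid.End V => l w) (hcomm a ha _ hzA)
        show a (z • w) = 0
        rw [show a (z • w) = z • a w from this, show a w = 0 from hw, smul_zero]) with h | h
    · exact absurd (show v ∈ (⊥ : AddSubgroup V) from h ▸ (show v ∈ K from hav))
        (by simpa using hv)
    · exact end_ext fun w => (h ▸ AddSubgroup.mem_top w : w ∈ K)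
  · intro g hg a ha
    induction ha using Subring.closure_induction with
    | mem a ha =>
      rw [Set.mem_singleton_iff] at ha
      subst ha
      intro v
      show g • z • v = z • g • v
      rw [← mul_smul, hg, mul_smul]
    | zero => intro v; show g • (0 : V) = 0; rw [smul_zero]
    | one => intro v; rfl
    | add a b _ _ ea eb =>
      intro v
      show g • (a v + b v) = a (g • v) + b (g • v)
      rw [smul_add, ea, eb]
    | neg a _ ea =>
      intro v
      show g • -(a v) = -(a (g • v))
      rw [smul_neg, ea]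
    | mul a b _ _ ea eb =>
      intro v
      show g • a (b v) = a (b (g • v))
      rw [ea, eb]
  · intro g hg a ha
    induction ha using Subring.closure_induction with
    | mem a ha =>
      rw [Set.mem_singleton_iff] at ha
      subst ha
      convert hg using 1
      exact end_ext fun v => by
        show g • z • g⁻¹ • v = (g * z * g⁻¹) • v
        rw [mul_smul, mul_smul]
    | zero => rw [mul_zero, zero_mul]; exact zero_mem _
    | one =>
      rw [mul_one, show (toEnd g : AddMonoid.End V) * toEnd g⁻¹ = 1 from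
        end_ext fun v => smul_inv_smul g v]
      exact one_mem _
    | add a b _ _ ea eb => rw [mul_add, add_mul]; exact add_mem ea eb
    | neg a _ ea => rw [mul_neg, neg_mul]; exact neg_mem ea
    | mul a b _ _ ea eb =>
      have := mul_mem ea eb
      convert this using 1
      exact end_ext fun v => by
        show g • a (b (g⁻¹ • v)) = g • a (g⁻¹ • g • b (g⁻¹ • v))
        rw [inv_smul_smul]

/-- The centraliser of an irreducible element is commutative. -/
theorem IsIrr.comm [Nontrivial V] {z : D} (hz : IsIrr D V z) {g h : D} (hg : g * z = z * g)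
    (hh : h * z = z * h) : g * h = h * g := by
  obtain ⟨A, hc, -, hzA, hcent, -⟩ := hz.exists_ring
  obtain ⟨v₀, hv₀⟩ := exists_ne (0 : V)
  let ev : A →+ V :=
    { toFun := fun a => (a : AddMonoid.End V) v₀
      map_zero' := rfl
      map_add' := fun _ _ => rfl }
  have htop : ev.range = ⊤ := by
    refine (hz ev.range fun w hw => ?_).resolve_left fun hb => hv₀ ?_
    · obtain ⟨a, rfl⟩ := hw
      exact ⟨⟨toEnd z * (a : AddMonoid.End V), A.mul_mem hzA a.2⟩, rfl⟩
    · have : v₀ ∈ ev.range := ⟨1, rfl⟩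
      rwa [hb, AddSubgroup.mem_bot] at this
  have key : ∀ g : D, g * z = z * g → ∃ c : A, ∀ v : V, g • v = (c : AddMonoid.End V) v := by
    intro g hg
    obtain ⟨c, hc'⟩ : g • v₀ ∈ ev.range := htop ▸ AddSubgroup.mem_top _
    refine ⟨c, fun v => ?_⟩
    obtain ⟨a, rfl⟩ : v ∈ ev.range := htop ▸ AddSubgroup.mem_top _
    show g • (a : AddMonoid.End V) v₀ = (c : AddMonoid.End V) ((a : AddMonoid.End V) v₀)
    rw [hcent g hg a a.2, ← hc']
    exact congrArg (fun l : AddMonoid.End V => l v₀) (hc a a.2 c c.2)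
  obtain ⟨c, hcg⟩ := key g hg
  obtain ⟨d, hdh⟩ := key h hh
  refine eq_of_smul_eq_smul fun v : V => ?_
  rw [mul_smul, mul_smul, hdh v, hcg, hcg v, hdh]
  exact congrArg (fun l : AddMonoid.End V => l v) (hc c c.2 d d.2)

omit [FaithfulSMul D V] in
/-- Commuting involutions have a common eigenvector. -/
theorem exists_eigen [Nontrivial V] (S : Finset D) (hsq : ∀ u ∈ S, u * u = 1)
    (hcomm : ∀ u ∈ S, ∀ w ∈ S, u * w = w * u) :
    ∃ v : V, v ≠ 0 ∧ ∀ u ∈ S, u • v = v ∨ u • v = -v := by
  classical
  induction S using Finset.induction with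
  | empty =>
    obtain ⟨v, hv⟩ := exists_ne (0 : V)
    exact ⟨v, hv, by simp⟩
  | insert w S hw ih =>
    obtain ⟨v, hv, hS⟩ := ih (fun u hu => hsq u (Finset.mem_insert_of_mem hu))
      fun u hu u' hu' => hcomm u (Finset.mem_insert_of_mem hu) u' (Finset.mem_insert_of_mem hu')
    by_cases h0 : v + w • v = 0
    · refine ⟨v, hv, fun u hu => ?_⟩
      rcases Finset.mem_insert.1 hu with rfl | hu
      · exact Or.inr (eq_neg_of_add_eq_zero_right h0)
      · exact hS u hu
    · refine ⟨v + w • v, h0, fun u hu => ?_⟩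
      rcases Finset.mem_insert.1 hu with rfl | hu'
      · left
        rw [smul_add, ← mul_smul, hsq u (Finset.mem_insert_self _ _), one_smul, add_comm]
      · have e : u • w • v = w • u • v := by
          rw [← mul_smul, hcomm u hu w (Finset.mem_insert_self _ _), mul_smul]
        rcases hS u hu' with h | h
        · left; rw [smul_add, e, h]
        · right; rw [smul_add, e, h, smul_neg, ← neg_add]

/-- Elementary abelian 2-groups normalised by an irreducible element of prime order `> f` are
scalar. -/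
theorem IsIrr.scalar (hp : p.Prime) (hp2 : p ≠ 2) (hexp : ∀ v : V, p • v = 0)
    (hcard : Nat.card V = p ^ f) (hf : 0 < f) {z : D} (hz : IsIrr D V z) (hr : r.Prime)
    (hzr : orderOf z = r) (hgt : f < r) (A0 : Subgroup D) [Finite A0]
    (hsq : ∀ u ∈ A0, u * u = 1) (hn : ∀ u ∈ A0, z * u * z⁻¹ ∈ A0) {u : D} (hu : u ∈ A0) :
    (∀ v : V, u • v = v) ∨ ∀ v : V, u • v = -v := by
  classical
  haveI : Nontrivial V := by
    rw [← Finite.one_lt_card_iff_nontrivial, hcard]
    exact Nat.one_lt_pow hf.ne' hp.one_lt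
  haveI := Fact.mk hp
  have hcomm : ∀ a ∈ A0, ∀ b ∈ A0, a * b = b * a := fun a ha b hb => by
    have h1 := inv_eq_of_mul_eq_one_right (hsq _ (A0.mul_mem ha hb))
    rw [mul_inv_rev, inv_eq_of_mul_eq_one_right (hsq a ha),
      inv_eq_of_mul_eq_one_right (hsq b hb)] at h1
    exact h1.symm
  obtain ⟨v, hv, heig⟩ := exists_eigen (V := V) ((A0 : Set D).toFinite.toFinset)
    (fun a ha => hsq a (by simpa using ha))
    fun a ha b hb => hcomm a (by simpa using ha) b (by simpa using hb)
  -- powers of `z` normalise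
  have hnk : ∀ k : ℕ, ∀ a ∈ A0, (z ^ k) * a * (z ^ k)⁻¹ ∈ A0 := by
    intro k
    induction k with
    | zero => simp
    | succ k ih =>
      intro a ha
      have := hn _ (ih a ha)
      convert this using 1
      rw [pow_succ']
      group
  have hzpk : ∀ k : ℕ, (z ^ k)⁻¹ = z ^ (r * k - k) := by
    intro k
    rw [inv_eq_iff_mul_eq_one, ← pow_add, Nat.add_sub_cancel' (Nat.le_mul_of_pos_left k hr.pos),
      pow_mul, ← hzr, pow_orderOf_eq_one, one_pow]
  have hnk' : ∀ k : ℕ, ∀ a ∈ A0, (z ^ k)⁻¹ * a * (z ^ k) ∈ A0 := by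
    intro k a ha
    have := hnk (r * k - k) a ha
    rwa [← hzpk, inv_inv] at this
  have heigk : ∀ k : ℕ, ∀ a ∈ A0, a • z ^ k • v = z ^ k • v ∨ a • z ^ k • v = -(z ^ k • v) := by
    intro k a ha
    have e : a • z ^ k • v = z ^ k • ((z ^ k)⁻¹ * a * z ^ k) • v := by
      rw [← mul_smul, ← mul_smul]
      congr 1
      group
    rcases heig _ (by simpa using hnk' k a ha) with h | h
    · left; rw [e, h]
    · right; rw [e, h, smul_neg]
  by_cases hdist : ∀ i j : Fin r, i ≠ j → ∃ a ∈ A0,
      ¬ (a • z ^ (i : ℕ) • v = z ^ (i : ℕ) • v ↔ a • z ^ (j : ℕ) • v = z ^ (j : ℕ) • v)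
  · exfalso
    haveI : Module (ZMod p) V := AddCommGroup.zmodModule hexp
    haveI : Module.Finite (ZMod p) V := Module.Finite.of_finite
    have hfin : Module.finrank (ZMod p) V = f := by
      have h3 := Module.natCard_eq_pow_finrank (K := ZMod p) (V := V)
      rw [hcard, Nat.card_zmod] at h3
      exact (Nat.pow_right_injective hp.two_le h3).symm
    have hne : ∀ i : Fin r, z ^ (i : ℕ) • v ≠ 0 := fun i h => hv (smul_eq_zero_iff_eq _ |>.1 h)
    have h2 : ∀ w : V, w ≠ 0 → -w ≠ w := by
      intro w hw e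
      have h1 : addOrderOf w = 2 := addOrderOf_eq_prime
        (by rw [two_nsmul]; exact neg_eq_iff_add_eq_zero.1 e) hw
      have h3 := addOrderOf_dvd_natCard w
      rw [h1, hcard] at h3
      exact hp2 ((Nat.prime_dvd_prime_iff_eq Nat.prime_two hp).1
        (Nat.prime_two.dvd_of_dvd_pow h3)).symm
    have hli : LinearIndependent (ZMod p) fun i : Fin r => z ^ (i : ℕ) • v := by
      rw [linearIndependent_iff']
      intro S
      induction S using Finset.strongInduction with
      | _ S ih =>
        intro c hc i hi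
        by_cases hone : ∀ j ∈ S, j = i
        · have hS : S = {i} := Finset.eq_singleton_iff_unique_mem.2 ⟨hi, hone⟩
          rw [hS, Finset.sum_singleton] at hc
          exact (smul_eq_zero.1 hc).resolve_right (hne i)
        push Not at hone
        obtain ⟨j, hj, hji⟩ := hone
        obtain ⟨a, ha, hd⟩ := hdist j i hji
        -- the part with the sign of `i`
        set P : Fin r → Prop := fun k => a • z ^ (k : ℕ) • v = z ^ (k : ℕ) • v with hP
        have hneg : ∀ k, ¬ P k → a • z ^ (k : ℕ) • v = -(z ^ (k : ℕ) • v) := fun k hk =>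
          (heigk _ a ha).resolve_left hk
        have hpart : ∑ k ∈ S with P k, c k • z ^ (k : ℕ) • v = 0 ∧
            ∑ k ∈ S with ¬ P k, c k • z ^ (k : ℕ) • v = 0 := by
          have h1 := Finset.sum_filter_add_sum_filter_not S P
            (fun k => c k • z ^ (k : ℕ) • v)
          rw [hc] at h1
          have h3 : a • ∑ k ∈ S, c k • z ^ (k : ℕ) • v =
              ∑ k ∈ S with P k, c k • z ^ (k : ℕ) • v -
                ∑ k ∈ S with ¬ P k, c k • z ^ (k : ℕ) • v := by
            have hsm : ∀ (x : ZMod p) (w : V), a • x • w = x • a • w := fun x w =>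
              ZMod.map_smul (DistribSMul.toAddMonoidHom V a) x w
            rw [Finset.smul_sum, ← Finset.sum_filter_add_sum_filter_not S P, sub_eq_add_neg,
              ← Finset.sum_neg_distrib]
            congr 1
            · exact Finset.sum_congr rfl fun k hk => by
                rw [hsm, show a • z ^ (k : ℕ) • v = _ from (Finset.mem_filter.1 hk).2]
            · exact Finset.sum_congr rfl fun k hk => by
                rw [hsm, hneg k (Finset.mem_filter.1 hk).2, smul_neg]
          rw [hc, smul_zero] at h3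
          set X := ∑ k ∈ S with P k, c k • z ^ (k : ℕ) • v
          set Y := ∑ k ∈ S with ¬ P k, c k • z ^ (k : ℕ) • v
          have hXY : X = Y := sub_eq_zero.1 h3.symm
          rw [hXY] at h1 ⊢
          have hY : Y = 0 := by
            by_contra hY
            exact h2 Y hY (neg_eq_iff_add_eq_zero.2 h1)
          exact ⟨hY, hY⟩
        by_cases hPi : P i
        · have hjn : ¬ P j := fun h => hd ⟨fun _ => hPi, fun _ => h⟩
          exact ih _ (Finset.filter_ssubset.2 ⟨j, hj, hjn⟩) c hpart.1 i
            (Finset.mem_filter.2 ⟨hi, hPi⟩)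
        · have hjp : P j := by
            by_contra h
            exact hd ⟨fun e => absurd e h, fun e => absurd e hPi⟩
          exact ih _ (Finset.filter_ssubset.2 ⟨j, hj, not_not.2 hjp⟩) c hpart.2 i
            (Finset.mem_filter.2 ⟨hi, hPi⟩)
    have := hli.fintype_card_le_finrank
    rw [Fintype.card_fin, hfin] at this
    omega
  · push Not at hdist
    obtain ⟨i, j, hij, hsame⟩ := hdist
    wlog hlt : (i : ℕ) < j generalizing i j
    · exact this j i (Ne.symm hij) (fun a ha => (hsame a ha).symm)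
        (lt_of_le_of_ne (not_lt.1 hlt) (fun e => hij (Fin.ext e.symm)))
    set y := z ^ ((j : ℕ) - i) with hy
    let W : AddSubgroup V :=
      { carrier := {w | ∀ a ∈ A0, (a • z ^ (i : ℕ) • v = z ^ (i : ℕ) • v → a • w = w) ∧
          (¬ a • z ^ (i : ℕ) • v = z ^ (i : ℕ) • v → a • w = -w)}
        zero_mem' := fun a _ => ⟨fun _ => smul_zero a, fun _ => by rw [smul_zero, neg_zero]⟩
        add_mem' := fun {x w} hx hw a ha => ⟨fun h => by rw [smul_add, (hx a ha).1 h, (hw a ha).1 h],
          fun h => by rw [smul_add, (hx a ha).2 h, (hw a ha).2 h, neg_add]⟩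
        neg_mem' := fun {x} hx a ha => ⟨fun h => by rw [smul_neg, (hx a ha).1 h],
          fun h => by rw [smul_neg, (hx a ha).2 h]⟩ }
    have hvW : z ^ (i : ℕ) • v ∈ W := fun a ha => ⟨fun h => h, fun h => (heigk _ a ha).resolve_left h⟩
    have hyW : ∀ w ∈ W, y • w ∈ W := by
      intro w hw a ha
      have hb : y⁻¹ * a * y ∈ A0 := hnk' _ a ha
      have e1 : a • y • w = y • (y⁻¹ * a * y) • w := by
        rw [← mul_smul, ← mul_smul]; congr 1; group
      have e2 : a • z ^ (j : ℕ) • v = y • (y⁻¹ * a * y) • z ^ (i : ℕ) • v := by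
        rw [← mul_smul, ← mul_smul, ← mul_smul]
        congr 1
        rw [hy, show z ^ (j : ℕ) = z ^ ((j : ℕ) - i) * z ^ (i : ℕ) by
          rw [← pow_add, Nat.sub_add_cancel hlt.le]]
        group
      have e3 : y • z ^ (i : ℕ) • v = z ^ (j : ℕ) • v := by
        rw [hy, ← mul_smul, ← pow_add, Nat.sub_add_cancel hlt.le]
      refine ⟨fun h => ?_, fun h => ?_⟩
      · rw [e1, (hw _ hb).1 ?_]
        refine smul_left_cancel y ?_
        rw [← e2, e3]
        exact (hsame a ha).1 h
      · rw [e1, (hw _ hb).2 fun hc => h ((hsame a ha).2 ?_), smul_neg]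
        rw [e2, hc, e3]
    have hzW : ∀ w ∈ W, z • w ∈ W := by
      haveI := Fact.mk hr
      have hyne : ((((j : ℕ) - i : ℕ) : ZMod r)) ≠ 0 := by
        rw [Ne, ZMod.natCast_eq_zero_iff]
        exact fun hd => absurd (Nat.le_of_dvd (by omega) hd) (by have := j.2; omega)
      obtain ⟨t, ht⟩ : ∃ t : ℕ, ((j : ℕ) - i) * t ≡ 1 [MOD r] := by
        refine ⟨(((((j : ℕ) - i : ℕ) : ZMod r))⁻¹).val, ?_⟩
        rw [← ZMod.natCast_eq_natCast_iff, Nat.cast_mul, ZMod.natCast_zmod_val, Nat.cast_one]
        exact mul_inv_cancel₀ hyne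
      have hzy : z = y ^ t := by
        rw [hy, ← pow_mul]
        conv_lhs => rw [← pow_one z]
        rw [pow_eq_pow_iff_modEq, hzr]
        exact ht.symm
      have hpow : ∀ t : ℕ, ∀ w ∈ W, y ^ t • w ∈ W := by
        intro t
        induction t with
        | zero => intro w hw; simpa using hw
        | succ t iht => intro w hw; rw [pow_succ, mul_smul]; exact iht _ (hyW w hw)
      rw [hzy]
      exact hpow t
    rcases hz W hzW with h | h
    · exact absurd (show z ^ (i : ℕ) • v ∈ (⊥ : AddSubgroup V) from h ▸ hvW)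
        (by simpa [smul_eq_zero_iff_eq] using hv)
    · by_cases hc : u • z ^ (i : ℕ) • v = z ^ (i : ℕ) • v
      · exact Or.inl fun w => ((h ▸ AddSubgroup.mem_top w : w ∈ W) u hu).1 hc
      · exact Or.inr fun w => ((h ▸ AddSubgroup.mem_top w : w ∈ W) u hu).2 hc

end Cfsg.Agent.Lib.TriThree76
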