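import Cfsg.Agent.Lib.SzTori.Count
import Cfsg.Agent.Lib.CycZFactor60.Basic
import Cfsg.Agent.Lib.Thompson3Prime33.SupportSz

/-!
# Two facts about the Suzuki groups

Elements of odd prime order are inverted by some element, and a primitive action of odd degree is
doubly transitive (the point stabiliser is the normaliser of a Sylow 2-subgroup).
-/

set_option autoImplicit false
set_option linter.unusedSectionVars false

namespace Cfsg.Agent.Lib.TriThree76

open Cfsg.Agent.Lib.LieTwisted.Suzuki Cfsg.Agent.Lib.SzTori MulAction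

section Model

variable {F : Type*} [Field F] [Fintype F] {m : ℕ} (h : IsSzField F m) (hm : 1 ≤ m)
include h hm

/-- A subgroup containing the root group lies in its normaliser or is everything. -/
theorem le_normalizer_or_top {B : Subgroup (Cfsg.Sz F m)} (hB : unip h ≤ B) :
    B ≤ Subgroup.normalizer (unip h : Set (Cfsg.Sz F m)) ∨ B = ⊤ := by
  set N := Subgroup.normalizer (unip h : Set (Cfsg.Sz F m)) with hN
  by_cases hle : B ≤ N
  · exact Or.inl hle
  right
  obtain ⟨x, hxB, hxN⟩ := SetLike.not_le_iff_exists.1 hle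
  have hclo : Subgroup.normalClosure (unip h : Set (Cfsg.Sz F m)) ≤ B := by
    rw [Subgroup.normalClosure, Subgroup.closure_le]
    intro y hy
    obtain ⟨u, hu, hc⟩ := Group.mem_conjugatesOfSet_iff.1 hy
    obtain ⟨g, rfl⟩ := isConj_iff.1 hc
    by_cases hg : g ∈ N
    · exact hB ((Subgroup.mem_normalizer_iff.1 hg u).1 hu)
    · obtain ⟨s, hs, -⟩ := h.unique_unip hm hxN hg
      have hu' : (((s : Cfsg.Sz F m) * x)⁻¹ * g) * u * (((s : Cfsg.Sz F m) * x)⁻¹ * g)⁻¹ ∈ unip h :=
        (Subgroup.mem_normalizer_iff.1 hs u).1 hu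
      have hsx : (s : Cfsg.Sz F m) * x ∈ B := B.mul_mem (hB s.2) hxB
      have hmem := B.mul_mem (B.mul_mem hsx (hB hu')) (B.inv_mem hsx)
      have e : g * u * g⁻¹ = (s : Cfsg.Sz F m) * x *
          (((s : Cfsg.Sz F m) * x)⁻¹ * g * u * (((s : Cfsg.Sz F m) * x)⁻¹ * g)⁻¹) *
          ((s : Cfsg.Sz F m) * x)⁻¹ := by group
      rw [SetLike.mem_coe, e]
      exact hmem
  have := h.isSimple hm
  rcases (Subgroup.normalClosure_normal (s := (unip h : Set (Cfsg.Sz F m)))).eq_bot_or_eq_top with
    he | he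
  · exfalso
    have h1 : uS h 0 1 ∈ Subgroup.normalClosure (unip h : Set (Cfsg.Sz F m)) :=
      Subgroup.subset_normalClosure (h.uS_mem 0 1)
    rw [he, Subgroup.mem_bot] at h1
    exact one_ne_zero (h.uS_coords_inj (h1.trans h.uS_zero.symm)).2
  · exact eq_top_iff.2 (he ▸ hclo)

open scoped Classical in
/-- Elements of odd prime order are inverted. -/
theorem exists_inverts {z : Cfsg.Sz F m} {r : ℕ} (hr : r.Prime) (hr2 : r ≠ 2) (hz : orderOf z = r) :
    ∃ y : Cfsg.Sz F m, y * z * y⁻¹ = z⁻¹ := by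
  haveI := Fact.mk hr
  have hz1 : z ≠ 1 := fun e => hr.one_lt.ne' (by rw [← hz, e, orderOf_one])
  by_cases hf : HasFix z
  · obtain ⟨x, hx⟩ := fix_cases h hm hf
    rcases hx with hx | ⟨e, -, hx⟩
    · exfalso
      have h1 := pow_four_of_mem h hm hx
      have h4 : z ^ 4 = 1 := by
        have := congrArg (fun w => x * w * x⁻¹) h1
        rw [← conj_pow] at this
        simpa [mul_assoc] using this
      have h5 : r ∣ 2 ^ 2 := by
        rw [← hz]
        exact orderOf_dvd_of_pow_eq_one h4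
      exact hr2 ((Nat.prime_dvd_prime_iff_eq hr Nat.prime_two).1 (hr.dvd_of_dvd_pow h5))
    · refine ⟨x * wS h * x⁻¹, ?_⟩
      have hw : wS h * dS h e * (wS h)⁻¹ = dS h e⁻¹ := by
        rw [h.wS_mul_dS, mul_inv_cancel_right]
      calc x * wS h * x⁻¹ * z * (x * wS h * x⁻¹)⁻¹
          = x * (wS h * (x⁻¹ * z * x) * (wS h)⁻¹) * x⁻¹ := by group
        _ = x * (dS h e)⁻¹ * x⁻¹ := by rw [hx, hw, map_inv]
        _ = z⁻¹ := by rw [← hx]; group
  · have hE : InE z := inE_of_not_fix h hm hf
    obtain ⟨g₁, g₂, -, -, -, -, -, hN⟩ := two_classes h hm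
    have hcard := hN z hE
    set C : Subgroup (Cfsg.Sz F m) := cen z with hC
    set N := Subgroup.normalizer (C : Set (Cfsg.Sz F m)) with hNdef
    haveI hcyc : IsCyclic C := torus_cyclic h hm hE
    have hzC : z ∈ C := mem_centralizer_iff'.2 rfl
    -- every element of `N` maps `z` to a power of `z`
    let Z : Subgroup C := Subgroup.zpowers ⟨z, hzC⟩
    have hZ : Nat.card Z = r := by rw [Nat.card_zpowers, Subgroup.orderOf_mk, hz]
    have hexp : ∀ n ∈ N, ∃ k : ℕ, n * z * n⁻¹ = z ^ k := by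
      intro n hn
      have h1 : n * z * n⁻¹ ∈ C := (Subgroup.mem_normalizer_iff.1 hn z).1 hzC
      have h2 : Subgroup.zpowers (⟨n * z * n⁻¹, h1⟩ : C) = Z := by
        refine CycZFactor60.subgroup_eq_of_card_eq ?_
        rw [Nat.card_zpowers, Subgroup.orderOf_mk, hZ, ← hz]
        exact (SemiconjBy.orderOf_eq n (by simp [SemiconjBy, mul_assoc])).symm
      have h3 : (⟨n * z * n⁻¹, h1⟩ : C) ∈ Z := h2 ▸ Subgroup.mem_zpowers _
      obtain ⟨k, hk⟩ := mem_powers_iff_mem_zpowers.2 h3
      exact ⟨k, (congrArg Subtype.val hk).symm⟩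
    -- an element of order two modulo `C`
    have hdvd : 2 ∣ C.relIndex N := by
      have h1 := Subgroup.relIndex_mul_index (Subgroup.le_normalizer (H := C))
      have h2 := C.card_mul_index
      have h3 := N.card_mul_index
      refine ⟨2, ?_⟩
      have hN0 : 0 < N.index := Nat.pos_of_ne_zero Subgroup.index_ne_zero_of_finite
      have hC0 : 0 < Nat.card C := Nat.card_pos
      have h4 : C.relIndex N * N.index * Nat.card C = 4 * Nat.card C * N.index := by
        rw [h1, mul_comm C.index, h2, ← h3, hcard]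
      have : C.relIndex N * (N.index * Nat.card C) = 4 * (N.index * Nat.card C) := by
        rw [← mul_assoc, h4]; ring
      rw [Nat.eq_of_mul_eq_mul_right (Nat.mul_pos hN0 hC0) this]
    haveI : (C.subgroupOf N).Normal := Subgroup.normal_in_normalizer
    haveI := Fact.mk Nat.prime_two
    obtain ⟨q, hq⟩ := exists_prime_orderOf_dvd_card' (G := ↥N ⧸ C.subgroupOf N) 2 hdvd
    obtain ⟨⟨y, hyN⟩, rfl⟩ := QuotientGroup.mk_surjective q
    have hyC : y ∉ C := by
      intro hy
      rw [(QuotientGroup.eq_one_iff _).2 (show (⟨y, hyN⟩ : N) ∈ C.subgroupOf N from hy), orderOf_one] at hq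
      exact absurd hq (by norm_num)
    have hy2 : y * y ∈ C := by
      have h1 := pow_orderOf_eq_one ((⟨y, hyN⟩ : N) : ↥N ⧸ C.subgroupOf N)
      rw [hq, ← QuotientGroup.mk_pow, QuotientGroup.eq_one_iff, pow_two] at h1
      exact h1
    obtain ⟨k, hk⟩ := hexp y hyN
    refine ⟨y, ?_⟩
    have h2 : z ^ (k * k) = z := by
      have e : (y * y) * z * (y * y)⁻¹ = z ^ (k * k) := by
        calc (y * y) * z * (y * y)⁻¹ = y * (y * z * y⁻¹) * y⁻¹ := by group
          _ = (y * z * y⁻¹) ^ k := by rw [hk, ← conj_pow]; simp only [hk]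
          _ = z ^ (k * k) := by rw [hk, ← pow_mul]
      have e2 : (y * y) * z = z * (y * y) := (mem_centralizer_iff'.1 hy2).symm
      rw [← e, e2, mul_inv_cancel_right]
    have hkk : ((k : ZMod r)) * k = 1 := by
      have h3 : k * k ≡ 1 [MOD r] := by
        rw [← hz]
        exact pow_eq_pow_iff_modEq.1 (by rw [pow_one]; exact h2)
      simpa using (ZMod.natCast_eq_natCast_iff' (k * k) 1 r).2 h3
    rcases mul_self_eq_one_iff.1 hkk with h1 | h1
    · exfalso
      apply hyC
      refine mem_centralizer_iff'.2 ?_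
      have h3 : z ^ k = z ^ 1 := by
        rw [pow_eq_pow_iff_modEq, hz]
        exact (ZMod.natCast_eq_natCast_iff' _ _ _).1 (by simpa using h1)
      rw [pow_one] at h3
      rw [h3] at hk
      exact (mul_inv_eq_iff_eq_mul.1 hk).symm
    · rw [hk]
      refine eq_inv_of_mul_eq_one_left ?_
      rw [← pow_succ, ← orderOf_dvd_iff_pow_eq_one, hz, ← ZMod.natCast_eq_zero_iff]
      push_cast
      rw [h1]
      ring

end Model

universe u v

/-- Elements of odd prime order of a Suzuki group are inverted. -/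
theorem inverts_of_isoSuzuki {L : Type v} [Group L] [Finite L] (hL : Cfsg.Lie.IsoSuzuki L) {z : L}
    {r : ℕ} (hr : r.Prime) (hr2 : r ≠ 2) (hz : orderOf z = r) : ∃ y : L, y * z * y⁻¹ = z⁻¹ := by
  haveI := Fact.mk Nat.prime_two
  obtain ⟨F, _, _, m, h, e, hm, -⟩ :=
    Thompson3Prime33.exists_model L hL (default : Sylow 2 L)
  obtain ⟨y, hy⟩ := exists_inverts h hm hr hr2 (z := e z) (by rw [MulEquiv.orderOf_eq]; exact hz)
  exact ⟨e.symm y, e.injective (by simp [hy])⟩

/-- A primitive action of odd degree of a Suzuki group is doubly transitive. -/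
theorem two_transitive_of_isoSuzuki {L : Type v} [Group L] [Finite L] (hL : Cfsg.Lie.IsoSuzuki L)
    {X : Type*} [MulAction L X] [Finite X] [Nontrivial X] (hp : MulAction.IsPreprimitive L X)
    (hodd : Odd (Nat.card X)) : IsMultiplyPretransitive L X 2 := by
  haveI := Fact.mk Nat.prime_two
  haveI := hp
  obtain ⟨b₀⟩ : Nonempty X := inferInstance
  set B := stabilizer L b₀ with hBdef
  let S : Sylow 2 B := default
  have hidx : ¬ 2 ∣ ((S : Subgroup B).map B.subtype).index := by
    rw [Subgroup.index_map_subtype]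
    refine Nat.prime_two.not_dvd_mul S.not_dvd_index ?_
    rw [hBdef, index_stabilizer_of_transitive]
    exact hodd.not_two_dvd_nat
  let S' : Sylow 2 L := (S.isPGroup'.map B.subtype).toSylow hidx
  have hS' : (S' : Subgroup L) ≤ B := Subgroup.map_subtype_le _
  obtain ⟨F, _, _, m, h, e, hm, he⟩ := Thompson3Prime33.exists_model L hL S'
  set N := Subgroup.normalizer (unip h : Set (Cfsg.Sz F m)) with hN
  have hcoB : IsCoatom B := (isCoatom_stabilizer_iff_preprimitive (G := L) b₀).2 hp
  have hB : B = N.comap e.toMonoidHom := by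
    have hU : unip h ≤ B.map e.toMonoidHom := fun u hu =>
      ⟨e.symm u, hS' ((he _).2 (by simpa using hu)), by simp⟩
    rcases le_normalizer_or_top h hm hU with hle | htop
    · have hle' : B ≤ N.comap e.toMonoidHom := Subgroup.map_le_iff_le_comap.1 hle
      rcases hcoB.le_iff.1 hle' with ht | ht
      · exfalso
        have h1 : N = ⊤ := by
          rw [eq_top_iff]
          intro x _
          have : e.symm x ∈ N.comap e.toMonoidHom := ht ▸ Subgroup.mem_top _
          simpa using this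
        have h2 := h.index_normalizer hm
        rw [← hN, h1, Subgroup.index_top] at h2
        have := h.two_lt_card hm
        nlinarith
      · exact ht.symm
    · refine absurd (eq_top_iff.2 fun y _ => ?_) hcoB.1
      obtain ⟨w, hw, hwy⟩ := Subgroup.mem_map.1 (htop ▸ Subgroup.mem_top (e y))
      exact e.injective hwy ▸ hw
  have hstab : IsPretransitive L X := hp.toIsPretransitive
  rw [is_two_pretransitive_iff]
  intro x y x' y' hxy hxy'
  obtain ⟨g, rfl⟩ := exists_smul_eq L b₀ x
  obtain ⟨g', rfl⟩ := exists_smul_eq L b₀ x'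
  -- reduce to the stabiliser of `b₀`
  obtain ⟨u, hu⟩ := exists_smul_eq L b₀ (g⁻¹ • y)
  obtain ⟨u', hu'⟩ := exists_smul_eq L b₀ (g'⁻¹ • y')
  have hnot : ∀ (g : L) (y : X) (u : L), g • b₀ ≠ y → u • b₀ = g⁻¹ • y → e u ∉ N := by
    intro g y u hne hu hmem
    have : u ∈ B := by rw [hB]; exact hmem
    rw [hBdef, mem_stabilizer_iff, hu, inv_smul_eq_iff] at this
    exact hne this.symm
  obtain ⟨s, hs, -⟩ := h.unique_unip hm (hnot g y u hxy hu) (hnot g' y' u' hxy' hu')
  have hsB : e.symm (s : Cfsg.Sz F m) ∈ B := hS' ((he _).2 (by simpa using s.2))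
  have hw : (e.symm (s : Cfsg.Sz F m) * u)⁻¹ * u' ∈ B := by
    rw [hB]
    show e _ ∈ N
    simpa using hs
  refine ⟨g' * e.symm (s : Cfsg.Sz F m) * g⁻¹, ?_, ?_⟩
  · rw [mul_smul, inv_smul_smul, mul_smul, mem_stabilizer_iff.1 hsB]
  · rw [mul_smul, mul_smul, ← hu, ← eq_inv_smul_iff, ← hu', ← mul_smul]
    rw [hBdef, mem_stabilizer_iff, mul_smul, inv_smul_eq_iff] at hw
    exact hw.symm

end Cfsg.Agent.Lib.TriThree76
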