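import Cfsg.Agent.Lib.TriThree76.Linear
import Cfsg.Agent.Lib.TriThree76.Irred
import Cfsg.Agent.Lib.TriThree76.SzFacts
import Cfsg.Agent.Lib.CharSimple
import Cfsg.Agent.Lib.Thompson3Prime33.Main
import Cfsg.Agent.Lib.OddOrder.FeitThompson

/-!
# Linear groups of odd dimension transitive on non-zero vectors: normal 3'-subgroups are solvable
-/

set_option autoImplicit false
set_option linter.unusedSectionVars false
set_option linter.style.haveILetI false

namespace Cfsg.Agent.Lib.TriThree76

open MulAction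
open scoped commutatorElement

universe u v

variable {D : Type u} {V : Type v} [Group D] [Finite D] [AddCommGroup V] [Finite V]
  [DistribMulAction D V] [FaithfulSMul D V] {p f : ℕ}

theorem Tr.comm_of_one (hT : Tr D V p f) (hf : f = 1) (g h : D) : g * h = h * g := by
  haveI := Fact.mk hT.prime
  have hcard : Nat.card V = p := by rw [hT.card, hf, pow_one]
  haveI := hT.nontrivial
  obtain ⟨v₀, hv₀⟩ := exists_ne (0 : V)
  have key : ∀ g : D, ∃ k : ℤ, ∀ v : V, g • v = k • v := by
    intro g
    obtain ⟨k, hk⟩ := mem_zmultiples_of_prime_card (g := v₀) (g' := g • v₀) hcard hv₀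
    refine ⟨k, fun v => ?_⟩
    obtain ⟨j, rfl⟩ := mem_zmultiples_of_prime_card (g := v₀) (g' := v) hcard hv₀
    show DistribSMul.toAddMonoidHom V g (j • v₀) = k • j • v₀
    rw [map_zsmul]
    show j • (g • v₀) = k • j • v₀
    rw [← hk, smul_comm]
  obtain ⟨i, hi⟩ := key g
  obtain ⟨j, hj⟩ := key h
  refine eq_of_smul_eq_smul fun v : V => ?_
  rw [mul_smul, mul_smul, hi, hj, hj, hi, smul_comm]

/-- A normal subgroup of order prime to `3` is solvable. -/
theorem Tr.solvable_of_not_three (hT : Tr D V p f) (N : Subgroup D) [N.Normal]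
    (h3 : ¬ 3 ∣ Nat.card N) : Group.IsSolvable N := by
  classical
  by_contra hns
  haveI := Fintype.ofFinite (Subgroup D)
  obtain ⟨L, hLm, hLmin⟩ := Finset.exists_min_image
    (Finset.univ.filter fun K : Subgroup D => K.Normal ∧ K ≤ N ∧ ¬ Group.IsSolvable K)
    (fun K => Nat.card K) ⟨N, Finset.mem_filter.2 ⟨Finset.mem_univ _, inferInstance, le_rfl, hns⟩⟩
  simp only [Finset.mem_filter, Finset.mem_univ, true_and] at hLm hLmin
  obtain ⟨hLnorm, hLN, hLns⟩ := hLm
  haveI := hLnorm
  have hsolv : ∀ K : Subgroup D, K.Normal → K ≤ L → K ≠ L → Group.IsSolvable K := by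
    intro K hK hKL hne
    by_contra hK'
    exact hne (Subgroup.eq_of_le_of_card_ge hKL (hLmin K ⟨hK, hKL.trans hLN, hK'⟩))
  -- `L` is perfect
  have hperf : ⁅L, L⁆ = L := by
    by_contra hne
    haveI := hsolv ⁅L, L⁆ inferInstance (Subgroup.commutator_le_self L) hne
    refine hLns ((Group.isSolvable_iff_subgroup_quotient (commutator ↥L)).2 ⟨?_, ?_⟩)
    · have hmap : (commutator ↥L).map L.subtype = ⁅L, L⁆ := Subgroup.map_subtype_commutator L
      exact Group.isSolvable_of_isSolvable_injective (f :=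
        ((MulEquiv.subgroupCongr hmap).toMonoidHom).comp
          ((commutator ↥L).equivMapOfInjective _ L.subtype_injective).toMonoidHom)
        ((MulEquiv.subgroupCongr hmap).injective.comp
          ((commutator ↥L).equivMapOfInjective _ L.subtype_injective).injective)
    · exact (inferInstance : Group.IsSolvable (Abelianization ↥L))
  have hLne : L ≠ ⊥ := fun h => hLns (by rw [h]; infer_instance)
  -- a maximal normal subgroup below
  obtain ⟨R, hRm, hRmax⟩ := Finset.exists_max_image
    (Finset.univ.filter fun K : Subgroup D => K.Normal ∧ K ≤ L ∧ K ≠ L)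
    (fun K => Nat.card K)
    ⟨⊥, Finset.mem_filter.2 ⟨Finset.mem_univ _, inferInstance, bot_le, hLne.symm⟩⟩
  simp only [Finset.mem_filter, Finset.mem_univ, true_and] at hRm hRmax
  obtain ⟨hRn, hRL, hRne⟩ := hRm
  haveI := hRn
  haveI := hsolv R hRn hRL hRne
  obtain ⟨F, hFR, hFn, hFc, -, hFcent, -, -⟩ := hT.solvable_structure R
  haveI := hFn
  haveI := hFc
  -- `L` centralises `R`
  have hLF : ∀ g ∈ L, ∀ x ∈ F, g * x = x * g := by
    have hker : ⁅L, L⁆ ≤ (MulAut.conjNormal : D →* MulAut F).ker := by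
      rw [Subgroup.commutator_le]
      intro a _ b _
      rw [MonoidHom.mem_ker, map_commutatorElement, commutatorElement_eq_one_iff_mul_comm]
      exact Fg6.TwoFrobenius.mulAut_comm _ _
    intro g hg x hx
    have h1 : (MulAut.conjNormal g : MulAut F) = 1 := MonoidHom.mem_ker.1 (hker (hperf.symm ▸ hg))
    have h2 := congrArg Subtype.val (DFunLike.congr_fun h1 ⟨x, hx⟩)
    rw [MulAut.conjNormal_apply] at h2
    exact mul_inv_eq_iff_eq_mul.1 h2
  have hRF : R = F := le_antisymm (fun g hg => hFcent g hg (hLF g (hRL hg))) hFR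
  have hLR : ∀ g ∈ L, ∀ x ∈ R, g * x = x * g := by rw [hRF]; exact hLF
  have hLcomm : ¬ ∀ g ∈ L, ∀ h ∈ L, g * h = h * g := fun h =>
    hLns (Group.isSolvable_of_comm fun a b => Subtype.ext (h a a.2 b b.2))
  have hf1 : 1 < f := by
    by_contra h
    exact hLcomm fun g _ k _ => hT.comm_of_one (by have := hT.odd.pos; omega) g k
  obtain ⟨r, hr⟩ := exists_ppd hT.prime hT.ne_two hf1 hT.odd
  haveI := Fact.mk hr.prime
  have hfr : f < r := hr.gt hT.prime hT.odd.pos
  have hr2 : r ≠ 2 := by omega
  haveI := hT.nontrivial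
  have hirr : ∀ z : D, orderOf z = r → IsIrr D V z := fun z hz =>
    hr.isIrr hT.prime hT.odd.pos hT.card hz
  by_cases hrL : r ∣ Nat.card L
  · -- a real element of `L`
    obtain ⟨⟨z, hzL⟩, hz⟩ := exists_prime_orderOf_dvd_card' r hrL
    rw [Subgroup.orderOf_mk] at hz
    have hrR : ¬ r ∣ Nat.card R := by
      intro h
      obtain ⟨⟨x, hxR⟩, hx⟩ := exists_prime_orderOf_dvd_card' r h
      rw [Subgroup.orderOf_mk] at hx
      exact hLcomm fun g hg k hk => (hirr x hx).comm (hLR g hg x hxR) (hLR k hk x hxR)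
    haveI : (R.subgroupOf L).Normal := inferInstance
    let Q := ↥L ⧸ R.subgroupOf L
    haveI : Nontrivial Q := QuotientGroup.nontrivial_iff.2 fun h =>
      hRne (le_antisymm hRL (Subgroup.subgroupOf_eq_top.1 h))
    have hchar : ∀ K : Subgroup Q, K.Characteristic → K = ⊥ ∨ K = ⊤ := by
      intro K hK
      set K' := K.comap (QuotientGroup.mk' (R.subgroupOf L)) with hK'
      haveI hKD : (K'.map L.subtype).Normal := ⟨fun x hx d => by
        obtain ⟨x, hxK, rfl⟩ := hx
        refine ⟨MulAut.conjNormal d x, ?_, MulAut.conjNormal_apply d x⟩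
        have hmapR : (R.subgroupOf L).map (MulAut.conjNormal d : MulAut L).toMonoidHom =
            R.subgroupOf L := by
          ext y
          simp only [Subgroup.mem_map, Subgroup.mem_subgroupOf, MulEquiv.coe_toMonoidHom]
          constructor
          · rintro ⟨w, hw, rfl⟩
            rw [MulAut.conjNormal_apply]
            exact hRn.conj_mem _ hw d
          · intro hy
            refine ⟨(MulAut.conjNormal d : MulAut L).symm y, ?_, MulEquiv.apply_symm_apply _ _⟩
            rw [MulAut.conjNormal_symm_apply]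
            simpa using hRn.conj_mem _ hy d⁻¹
        let ψ : Q ≃* Q := QuotientGroup.congr _ _ (MulAut.conjNormal d) hmapR
        have h1 : ψ (QuotientGroup.mk' _ x) ∈ K := by
          have := hK.fixed ψ
          have hx' : QuotientGroup.mk' (R.subgroupOf L) x ∈ K := hxK
          rw [← this] at hx'
          exact hx'
        exact h1⟩
      have hle : R ≤ K'.map L.subtype := fun x hx =>
        ⟨⟨x, hRL hx⟩, by
          show QuotientGroup.mk' (R.subgroupOf L) ⟨x, hRL hx⟩ ∈ K
          rw [QuotientGroup.mk'_apply, (QuotientGroup.eq_one_iff _).2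
            (show (⟨x, hRL hx⟩ : L) ∈ R.subgroupOf L from hx)]
          exact K.one_mem, rfl⟩
      by_cases htop : K'.map L.subtype = L
      · right
        rw [eq_top_iff]
        intro q _
        obtain ⟨x, rfl⟩ := QuotientGroup.mk'_surjective (R.subgroupOf L) q
        obtain ⟨y, hy, e⟩ : (x : D) ∈ K'.map L.subtype := htop.symm ▸ x.2
        rw [← Subtype.ext e]
        exact hy
      · left
        have heq := Subgroup.eq_of_le_of_card_ge hle
          (hRmax _ ⟨hKD, Subgroup.map_subtype_le _, htop⟩)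
        rw [eq_bot_iff]
        intro q hq
        obtain ⟨x, rfl⟩ := QuotientGroup.mk'_surjective (R.subgroupOf L) q
        rw [Subgroup.mem_bot, QuotientGroup.mk'_apply, QuotientGroup.eq_one_iff]
        show (x : D) ∈ R
        rw [heq]
        exact ⟨x, hq, rfl⟩
    obtain ⟨S, n, -, hSs, -, ⟨e⟩⟩ := CharSimple.exists_mulEquiv_pi_of_charSimple Q hchar
    haveI := hSs
    have hQna : ¬ ∀ a b : Q, a * b = b * a := by
      intro h
      refine hRne (le_antisymm hRL ?_)
      rw [← hperf, Subgroup.commutator_le]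
      intro a ha b hb
      have h1 : (QuotientGroup.mk' (R.subgroupOf L)) ⁅(⟨a, ha⟩ : L), ⟨b, hb⟩⁆ = 1 := by
        rw [map_commutatorElement, commutatorElement_eq_one_iff_mul_comm]
        exact h _ _
      rw [QuotientGroup.mk'_apply, QuotientGroup.eq_one_iff] at h1
      exact h1
    have hSna : ∃ a b : S, a * b ≠ b * a := by
      by_contra! h
      exact hQna fun a b => e.injective (funext fun i => by rw [map_mul, map_mul]; exact h _ _)
    have h3S : ¬ 3 ∣ Nat.card S := fun h => h3 <| by
      have h1 : Nat.card S ∣ Nat.card Q := Subgroup.card_subgroup_dvd_card S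
      exact ((h.trans h1).trans (Subgroup.card_quotient_dvd_card _)).trans
        (Subgroup.card_dvd_of_le hLN)
    have hSz := Thompson3Prime33.threePrimeSimple S hSs hSna h3S
    have hy : ∀ i, ∃ y : S, y * e (QuotientGroup.mk' _ ⟨z, hzL⟩) i * y⁻¹ =
        (e (QuotientGroup.mk' _ ⟨z, hzL⟩) i)⁻¹ := by
      intro i
      have hpow : (e (QuotientGroup.mk' (R.subgroupOf L) ⟨z, hzL⟩) i) ^ r = 1 := by
        rw [← Pi.pow_apply, ← map_pow, ← map_pow,
          show (⟨z, hzL⟩ : L) ^ r = 1 from Subtype.ext (by simpa [hz] using pow_orderOf_eq_one z)]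
        simp
      rcases (Nat.dvd_prime hr.prime).1 (orderOf_dvd_of_pow_eq_one hpow) with h | h
      · refine ⟨1, ?_⟩
        rw [orderOf_eq_one_iff.1 h]
        group
      · exact inverts_of_isoSuzuki hSz hr.prime hr2 h
    choose ys hys using hy
    obtain ⟨⟨y, hyL⟩, hyy⟩ := QuotientGroup.mk'_surjective (R.subgroupOf L) (e.symm ys)
    have hrel : QuotientGroup.mk' (R.subgroupOf L) (⟨y, hyL⟩ * ⟨z, hzL⟩ * ⟨y, hyL⟩⁻¹ * ⟨z, hzL⟩) = 1 := by
      rw [map_mul, map_mul, map_mul, map_inv, hyy]
      apply e.injective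
      funext i
      simp only [map_mul, map_inv, MulEquiv.apply_symm_apply, map_one, Pi.mul_apply, Pi.inv_apply,
        Pi.one_apply]
      rw [hys i, inv_mul_cancel]
    rw [QuotientGroup.mk'_apply, QuotientGroup.eq_one_iff] at hrel
    set c : D := y * z * y⁻¹ * z with hc
    have hcR : c ∈ R := hrel
    have hconj : y * z * y⁻¹ = c * z⁻¹ := by rw [hc]; group
    have hc1 : c = 1 := by
      have hcz : Commute c z⁻¹ := (Commute.symm (hLR z hzL c hcR)).inv_right
      have h1 : c ^ r = 1 := by
        have h2 : (y * z * y⁻¹) ^ r = 1 := by rw [conj_pow, ← hz, pow_orderOf_eq_one]; group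
        rw [hconj, hcz.mul_pow, inv_pow, ← hz, pow_orderOf_eq_one, inv_one, mul_one] at h2
        rwa [hz] at h2
      rcases (Nat.dvd_prime hr.prime).1 (orderOf_dvd_of_pow_eq_one h1) with h | h
      · exact orderOf_eq_one_iff.1 h
      · exfalso
        apply hrR
        rw [← h, ← Subgroup.orderOf_mk c hcR]
        exact orderOf_dvd_natCard _
    rw [hc1, one_mul] at hconj
    obtain ⟨A, hAc, hAk, hzA, hcent, hnorm⟩ := (hirr z hz).exists_ring
    have hinvA : toEnd z⁻¹ ∈ A := by
      have e1 : z⁻¹ = z ^ (r - 1) := by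
        rw [inv_eq_iff_mul_eq_one, ← pow_succ', Nat.sub_add_cancel hr.prime.pos, ← hz,
          pow_orderOf_eq_one]
      rw [e1]
      show DistribMulAction.toAddMonoidEnd D V (z ^ (r - 1)) ∈ A
      rw [map_pow]
      exact pow_mem hzA _
    have hyy2 : (y * y) * z = z * (y * y) := by
      have e1 : y * z⁻¹ * y⁻¹ = z := by
        calc y * z⁻¹ * y⁻¹ = (y * z * y⁻¹)⁻¹ := by group
          _ = z := by rw [hconj, inv_inv]
      calc (y * y) * z = y * (y * z * y⁻¹) * y⁻¹ * (y * y) := by group
        _ = z * (y * y) := by rw [hconj, e1]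
    have hcom := commute_of_sq (D := D) hT.prime hT.ne_two hT.card hT.odd A hAc hAk y
      (hnorm y (by rw [hconj]; exact hinvA))
      (fun a ha => end_ext fun v => hcent (y * y) hyy2 a ha v) _ hzA
    have hyz : y * z = z * y := eq_of_smul_eq_smul fun v : V => by
      rw [mul_smul, mul_smul]; exact hcom v
    rw [hyz, mul_inv_cancel_right] at hconj
    have : z ^ 2 = 1 := by rw [pow_two]; nth_rw 2 [hconj]; exact mul_inv_cancel z
    have h2 := orderOf_dvd_of_pow_eq_one this
    rw [hz] at h2
    exact hr2 ((Nat.prime_dvd_prime_iff_eq hr.prime Nat.prime_two).1 h2)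
  · -- an element normalising a Sylow 2-subgroup
    haveI := Fact.mk Nat.prime_two
    let U : Sylow 2 L := default
    set U' := (U : Subgroup L).map L.subtype with hU'
    have hsup := Sylow.normalizer_sup_eq_top U
    set M := Subgroup.normalizer (U' : Set D) with hM
    have hrD : r ∣ Nat.card D := by
      obtain ⟨v₀, hv₀⟩ := exists_ne (0 : V)
      have hfr' := Nat.card_congr (orbitProdStabilizerEquivGroup D v₀)
      rw [Nat.card_prod] at hfr'
      rw [← hfr']
      refine Dvd.dvd.mul_right ?_ _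
      have horb : MulAction.orbit D v₀ = ({0}ᶜ : Set V) := by
        ext w
        simp only [Set.mem_compl_iff, Set.mem_singleton_iff, MulAction.mem_orbit_iff]
        exact ⟨fun ⟨d, hd⟩ h => hv₀ ((smul_eq_zero_iff_eq d).1 (hd.trans h)),
          fun hw => hT.trans v₀ w hv₀ hw⟩
      rw [horb, Nat.card_coe_set_eq, Set.ncard_compl, Set.ncard_singleton, hT.card]
      exact hr.dvd
    have hrM : r ∣ Nat.card M := by
      let π : M →* D ⧸ L := (QuotientGroup.mk' L).comp M.subtype
      have hπ : Function.Surjective π := by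
        intro q
        obtain ⟨d, rfl⟩ := QuotientGroup.mk'_surjective L q
        have hd : d ∈ ((M ⊔ L : Subgroup D) : Set D) := by
          have h := hsup
          rw [hM]
          rw [show Subgroup.normalizer (U' : Set D) ⊔ L = ⊤ from h]
          exact Set.mem_univ d
        rw [Subgroup.mul_normal] at hd
        obtain ⟨m, hm, l, hl, rfl⟩ := Set.mem_mul.1 hd
        refine ⟨⟨m, hm⟩, ?_⟩
        show QuotientGroup.mk' L m = QuotientGroup.mk' L (m * l)
        rw [map_mul, (QuotientGroup.eq_one_iff l).2 hl |> fun h => (show QuotientGroup.mk' L l = 1 from h),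
          mul_one]
      have h1 := Subgroup.card_dvd_of_surjective π hπ
      rw [Subgroup.card_eq_card_quotient_mul_card_subgroup L] at hrD
      exact ((hr.prime.dvd_mul.1 hrD).resolve_right hrL).trans h1
    obtain ⟨⟨z, hzM⟩, hz⟩ := exists_prime_orderOf_dvd_card' r hrM
    rw [Subgroup.orderOf_mk] at hz
    have hUne : U' ≠ ⊥ := by
      intro h
      refine hLns (OddOrder.FeitThompson.isSolvable_of_odd_card (G := ↥L) ?_)
      rw [Nat.odd_iff, ← Nat.two_dvd_ne_zero]
      intro h2
      have := U.dvd_card_of_dvd_card h2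
      rw [← Subgroup.card_map_of_injective L.subtype_injective, ← hU', h, Subgroup.card_bot] at this
      exact absurd this (by norm_num)
    have hU2 : IsPGroup 2 U' := U.2.map _
    haveI : Nontrivial U' := (Subgroup.nontrivial_iff_ne_bot U').2 hUne
    haveI := hU2.center_nontrivial
    let A0 : Subgroup D :=
      { carrier := {u | ∃ hu : u ∈ U', (∀ w ∈ U', u * w = w * u) ∧ u * u = 1}
        one_mem' := ⟨U'.one_mem, fun w _ => by rw [one_mul, mul_one], one_mul 1⟩
        mul_mem' := by
          rintro a b ⟨ha, hac, ha2⟩ ⟨hb, hbc, hb2⟩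
          refine ⟨U'.mul_mem ha hb, fun w hw => ?_, ?_⟩
          · rw [mul_assoc, hbc w hw, ← mul_assoc, hac w hw, mul_assoc]
          · rw [mul_assoc, ← mul_assoc b, hbc a ha, mul_assoc, hb2, mul_one, ha2]
        inv_mem' := by
          rintro a ⟨ha, hac, ha2⟩
          rw [inv_eq_of_mul_eq_one_right ha2]
          exact ⟨ha, hac, ha2⟩ }
    obtain ⟨u, huA, hu1⟩ : ∃ u ∈ A0, u ≠ 1 := by
      obtain ⟨k, hk⟩ := IsPGroup.iff_card.1 (hU2.to_subgroup (Subgroup.center U'))
      have h2 : 2 ∣ Nat.card (Subgroup.center U') := by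
        rw [hk]
        refine dvd_pow_self 2 fun h => ?_
        have := Finite.one_lt_card (α := Subgroup.center U')
        rw [hk, h, pow_zero] at this
        omega
      obtain ⟨c, hc⟩ := exists_prime_orderOf_dvd_card' 2 h2
      have hc2 : c * c = 1 := by rw [← pow_two, ← hc, pow_orderOf_eq_one]
      refine ⟨((c : U') : D), ⟨(c : U').2, fun w hw => ?_, ?_⟩, fun h => ?_⟩
      · exact congrArg Subtype.val (Subgroup.mem_center_iff.1 c.2 ⟨w, hw⟩).symm
      · exact congrArg Subtype.val (congrArg Subtype.val hc2)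
      · rw [show c = 1 from Subtype.ext (Subtype.ext h), orderOf_one] at hc
        omega
    have hn : ∀ a ∈ A0, z * a * z⁻¹ ∈ A0 := by
      rintro a ⟨ha, hac, ha2⟩
      have hm := Subgroup.mem_normalizer_iff.1 hzM
      refine ⟨(hm a).1 ha, fun w hw => ?_, ?_⟩
      · have hw' : z⁻¹ * w * z ∈ U' := (hm _).2 (by simpa [mul_assoc] using hw)
        calc z * a * z⁻¹ * w = z * (a * (z⁻¹ * w * z)) * z⁻¹ := by group
          _ = z * ((z⁻¹ * w * z) * a) * z⁻¹ := by rw [hac _ hw']
          _ = w * (z * a * z⁻¹) := by group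
      · calc z * a * z⁻¹ * (z * a * z⁻¹) = z * (a * a) * z⁻¹ := by group
          _ = 1 := by rw [ha2]; group
    have hneg : ∀ v : V, u • v = -v := by
      rcases (hirr z hz).scalar hT.prime hT.ne_two hT.exp hT.card hT.odd.pos hr.prime hz hfr A0
        (fun a ha => ha.2.2) hn huA with h | h
      · exact absurd (eq_of_smul_eq_smul fun v : V => (h v).trans (one_smul D v).symm) hu1
      · exact h
    obtain ⟨Δ, hΔ⟩ := hT.exists_det
    refine hΔ u hneg ?_
    have hker : ⁅L, L⁆ ≤ Δ.ker := by
      rw [Subgroup.commutator_le]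
      intro a _ b _
      rw [MonoidHom.mem_ker, map_commutatorElement, commutatorElement_eq_one_iff_mul_comm]
      exact mul_comm _ _
    have huL : u ∈ ⁅L, L⁆ := by
      rw [hperf]
      obtain ⟨hu, -, -⟩ := huA
      exact Subgroup.map_subtype_le _ hu
    exact MonoidHom.mem_ker.1 (hker huL)

end Cfsg.Agent.Lib.TriThree76
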