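import Cfsg.Agent.Lib.TriThree76.Colours
import Cfsg.Agent.Lib.TriThree76.NonSolvable

/-!
# The affine case: the two-point stabiliser is semiregular
-/

set_option autoImplicit false
set_option linter.unusedSectionVars false
set_option linter.style.haveILetI false

namespace Cfsg.Agent.Lib.TriThree76

open MulAction

universe u v

variable {G : Type u} [Group G] [Finite G] {Ω : Type v} [Finite Ω] [MulAction G Ω]
  [FaithfulSMul G Ω]

/-- Elements normalising a cyclic group act on it by commuting automorphisms. -/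
theorem conj_comm_of_cyclic {F : Subgroup G} [IsCyclic F] {g h : G}
    (hg : ∀ x ∈ F, g * x * g⁻¹ ∈ F) (hh : ∀ x ∈ F, h * x * h⁻¹ ∈ F) :
    ∀ x ∈ F, g * (h * x * h⁻¹) * g⁻¹ = h * (g * x * g⁻¹) * h⁻¹ := by
  obtain ⟨⟨x₀, hx₀⟩, hgen⟩ := IsCyclic.exists_generator (α := F)
  have key : ∀ y ∈ F, ∃ i : ℤ, y = x₀ ^ i := fun y hy => by
    obtain ⟨i, hi⟩ := Subgroup.mem_zpowers_iff.1 (hgen ⟨y, hy⟩)
    exact ⟨i, (congrArg Subtype.val hi).symm⟩
  obtain ⟨i, hi⟩ := key _ (hg x₀ hx₀)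
  obtain ⟨j, hj⟩ := key _ (hh x₀ hx₀)
  intro x hx
  obtain ⟨l, rfl⟩ := key x hx
  have e : ∀ (g : G) (i l : ℤ), g * x₀ * g⁻¹ = x₀ ^ i → g * x₀ ^ l * g⁻¹ = x₀ ^ (i * l) := by
    intro g i l hgi
    rw [← conj_zpow, hgi, ← zpow_mul]
  rw [e h j l hj, e g i l hi, e g i _ hi, e h j _ hj]
  congr 1
  ring

variable (hS : Setting G Ω) {H : Subgroup G} [H.Normal]
include hS

/-- Semiregularity of the two-point stabiliser. -/
theorem Setting.affine (hH2 : IsMultiplyPretransitive H Ω 2) (hsimple : IsSimpleGroup H)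
    (heven : Even (Nat.card Ω)) {a b : Ω} (hab : a ≠ b)
    (hloc : ¬ 3 ∣ Nat.card (pairH H a b) ∨ Odd (Nat.card (pairH H a b)))
    (Q : Subgroup G) (hQ : Q ≤ H ⊓ stabilizer G a)
    (hQn : ∀ g ∈ stabilizer G a, ∀ q ∈ Q, g * q * g⁻¹ ∈ Q)
    (hQc : ∀ x ∈ Q, ∀ y ∈ Q, x * y = y * x)
    (hQp : ∃ p : ℕ, p.Prime ∧ ∀ x ∈ Q, x ^ p = 1)
    (hQfree : ∀ q ∈ Q, ∀ c, c ≠ a → q • c = c → q = 1)
    (hQtr : ∀ c d, c ≠ a → d ≠ a → ∃ q ∈ Q, q • c = d)
    {e : G} (he : e ∈ pairH H a b) {c : Ω} (hca : c ≠ a) (hcb : c ≠ b) (hec : e • c = c) :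
    e = 1 := by
  classical
  haveI := Fintype.ofFinite Ω
  obtain ⟨p, hp, hexp⟩ := hQp
  have hQa : ∀ q ∈ Q, q • a = a := fun q hq => (Subgroup.mem_inf.1 (hQ hq)).2
  -- the order of `Q`
  have hcard : Nat.card Q + 1 = Nat.card Ω := by
    let eq' : Q ≃ {c : Ω // c ≠ a} := Equiv.ofBijective
      (fun q => ⟨(q : G) • b, fun h => hab.symm (smul_left_cancel (q : G) (h.trans (hQa q q.2).symm))⟩)
      ⟨fun x y h => by
        have h' : (x : G) • b = (y : G) • b := congrArg Subtype.val h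
        have := hQfree _ (Q.mul_mem (Q.inv_mem y.2) x.2) b hab.symm (by rw [mul_smul, h', inv_smul_smul])
        exact Subtype.ext (inv_mul_eq_one.1 this).symm,
      fun d => by
        obtain ⟨q, hq, h⟩ := hQtr b d hab.symm d.2
        exact ⟨⟨q, hq⟩, Subtype.ext h⟩⟩
    rw [Nat.card_congr eq', ← Nat.card_congr (Equiv.optionSubtypeNe a), Finite.card_option]
  haveI := Fact.mk hp
  have hQP : IsPGroup p Q := fun x => ⟨1, Subtype.ext (by simpa using hexp x x.2)⟩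
  obtain ⟨f, hf⟩ := hQP.exists_card_eq
  have hp2 : p ≠ 2 := by
    rintro rfl
    rw [hf] at hcard
    rcases Nat.eq_zero_or_pos f with rfl | hf0
    · have := hS.big; omega
    · obtain ⟨i, hi⟩ := dvd_pow_self 2 hf0.ne'
      obtain ⟨j, hj⟩ := heven
      omega
  have hfodd : Odd f := by
    rcases Nat.even_or_odd f with ⟨l, hl⟩ | h
    · exfalso
      rw [hf, hl, pow_add] at hcard
      obtain ⟨j, hj⟩ := hS.three
      have h1 : p ^ l * p ^ l % 3 = 2 := by omega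
      rw [Nat.mul_mod] at h1
      rcases (show p ^ l % 3 = 0 ∨ p ^ l % 3 = 1 ∨ p ^ l % 3 = 2 by omega) with h | h | h <;>
        rw [h] at h1 <;> omega
    · exact h
  -- the linear group
  set D := stabilizer G a ⊓ stabilizer G b with hD
  have hDa : ∀ d : D, (d : G) • a = a := fun d => (Subgroup.mem_inf.1 d.2).1
  have hDb : ∀ d : D, (d : G) • b = b := fun d => (Subgroup.mem_inf.1 d.2).2
  letI : CommGroup Q :=
    { (inferInstance : Group Q) with mul_comm := fun x y => Subtype.ext (hQc x x.2 y y.2) }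
  let V := Additive Q
  let sm : D → V → V := fun d v => Additive.ofMul
    ⟨(d : G) * ((Additive.toMul v : Q) : G) * (d : G)⁻¹, hQn d (hDa d) _ (Additive.toMul v).2⟩
  letI : DistribMulAction D V :=
    { smul := sm
      one_smul := fun v => Subtype.ext (by
        show ((1 : D) : G) * ((Additive.toMul v : Q) : G) * ((1 : D) : G)⁻¹ = _
        rw [Subgroup.coe_one, inv_one, one_mul, mul_one]
        rfl)
      mul_smul := fun d d' v => Subtype.ext (by
        show ((d * d' : D) : G) * ((Additive.toMul v : Q) : G) * ((d * d' : D) : G)⁻¹ =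
          (d : G) * ((d' : G) * ((Additive.toMul v : Q) : G) * (d' : G)⁻¹) * (d : G)⁻¹
        rw [Subgroup.coe_mul, mul_inv_rev]; simp only [mul_assoc])
      smul_zero := fun d => Subtype.ext (by
        show (d : G) * 1 * (d : G)⁻¹ = 1
        rw [mul_one, mul_inv_cancel])
      smul_add := fun d v w => Subtype.ext (by
        show (d : G) * (((Additive.toMul v : Q) : G) * ((Additive.toMul w : Q) : G)) * (d : G)⁻¹ =
          ((d : G) * ((Additive.toMul v : Q) : G) * (d : G)⁻¹) *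
            ((d : G) * ((Additive.toMul w : Q) : G) * (d : G)⁻¹)
        simp [mul_assoc]) }
  have hsm : ∀ (d : D) (q : Q), ((Additive.toMul (d • (Additive.ofMul q : V)) : Q) : G) =
      (d : G) * q * (d : G)⁻¹ := fun d q => rfl
  haveI : FaithfulSMul D V := ⟨fun {d d'} h => by
    refine Subtype.ext (eq_of_smul_eq_smul fun x : Ω => ?_)
    by_cases hx : x = a
    · rw [hx, hDa, hDa]
    · obtain ⟨q, hq, rfl⟩ := hQtr b x hab.symm hx
      have h1 := congrArg (fun v : V => ((Additive.toMul v : Q) : G)) (h (Additive.ofMul ⟨q, hq⟩))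
      simp only [hsm] at h1
      have h2 : ((d : G) * q * (d : G)⁻¹) • b = ((d' : G) * q * (d' : G)⁻¹) • b := by rw [h1]
      rwa [mul_smul, mul_smul, mul_smul, mul_smul, inv_smul_eq_iff.2 (hDb d).symm,
        inv_smul_eq_iff.2 (hDb d').symm] at h2⟩
  have htrQ : ∀ q ∈ Q, q ≠ 1 → ∀ q' ∈ Q, q' ≠ 1 →
      ∃ g ∈ D, g * q * g⁻¹ = q' := by
    intro q hq hq1 q' hq' hq1'
    have hne : ∀ q ∈ Q, q ≠ 1 → a ≠ q • b ∧ b ≠ q • b := fun q hq hq1 =>
      ⟨fun h => hab (smul_left_cancel q ((hQa q hq).trans h)),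
        fun h => hq1 (hQfree q hq b hab.symm h.symm)⟩
    obtain ⟨g, ga, gb, gq⟩ := hS.exists_triple hab (hne q hq hq1).1 (hne q hq hq1).2 hab
      (hne q' hq' hq1').1 (hne q' hq' hq1').2
    refine ⟨g, Subgroup.mem_inf.2 ⟨ga, gb⟩, ?_⟩
    have hmem := hQn g ga q hq
    have h1 : (g * q * g⁻¹) • b = q' • b := by
      rw [mul_smul, mul_smul, inv_smul_eq_iff.2 gb.symm, gq]
    have := hQfree _ (Q.mul_mem (Q.inv_mem hq') hmem) b hab.symm (by rw [mul_smul, h1, inv_smul_smul])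
    exact (inv_mul_eq_one.1 this).symm
  have hT : Tr D V p f :=
    { prime := hp
      ne_two := hp2
      exp := fun v => by
        show Additive.ofMul ((Additive.toMul v : Q) ^ p) = Additive.ofMul (1 : Q)
        congr 1
        exact Subtype.ext (by simpa using hexp _ (Additive.toMul v).2)
      card := by rw [Nat.card_congr Additive.toMul, hf]
      odd := hfodd
      trans := fun v w hv hw => by
        obtain ⟨g, hg, hgvw⟩ := htrQ _ (Additive.toMul v).2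
          (fun h => hv (Additive.toMul.injective (Subtype.ext h))) _ (Additive.toMul w).2
          (fun h => hw (Additive.toMul.injective (Subtype.ext h)))
        exact ⟨⟨g, hg⟩, Additive.toMul.injective (Subtype.ext hgvw)⟩ }
  -- the Fitting subgroup of the two-point stabiliser
  set E := pairH H a b with hE
  have hED : E ≤ D := fun g hg => Subgroup.mem_inf.2 (mem_pairH.1 hg).2
  have hEconj : ∀ g ∈ D, ∀ x ∈ E, g * x * g⁻¹ ∈ E := by
    intro g hg x hx
    obtain ⟨ga, gb⟩ := Subgroup.mem_inf.1 hg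
    obtain ⟨xH, xa, xb⟩ := mem_pairH.1 hx
    exact mem_pairH.2 ⟨Subgroup.Normal.conj_mem inferInstance _ xH g,
      by rw [mul_smul, mul_smul, inv_smul_eq_iff.2 (mem_stabilizer_iff.1 ga).symm, xa,
        mem_stabilizer_iff.1 ga],
      by rw [mul_smul, mul_smul, inv_smul_eq_iff.2 (mem_stabilizer_iff.1 gb).symm, xb,
        mem_stabilizer_iff.1 gb]⟩
  set EN := E.subgroupOf D with hEN
  haveI : EN.Normal := ⟨fun x hx g => hEconj g g.2 x hx⟩
  have hcardEN : Nat.card EN = Nat.card E := Nat.card_congr (Subgroup.subgroupOfEquivOfLe hED).toEquiv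
  haveI : Group.IsSolvable EN := by
    rcases hloc with h | h
    · exact hT.solvable_of_not_three EN (by rwa [hcardEN])
    · exact OddOrder.FeitThompson.isSolvable_of_odd_card (by rwa [hcardEN])
  obtain ⟨F0, hF0E, hF0n, hF0c, hF0free, hF0cent, hF0sq, hF0char⟩ := hT.solvable_structure EN
  haveI := hF0n
  haveI := hF0c
  set F := F0.map D.subtype with hF
  haveI : IsCyclic F := isCyclic_of_surjective
    ((F0.equivMapOfInjective D.subtype D.subtype_injective).toMonoidHom) (MulEquiv.surjective _)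
  have hFE : F ≤ E := by
    rintro x ⟨y, hy, rfl⟩
    exact hF0E hy
  have hmemF : ∀ (g : G) (hg : g ∈ D), g ∈ F ↔ (⟨g, hg⟩ : D) ∈ F0 := fun g hg =>
    ⟨fun ⟨y, hy, e⟩ => by rwa [show (⟨g, hg⟩ : D) = y from Subtype.ext e.symm],
      fun h => ⟨_, h, rfl⟩⟩
  have hFn : ∀ g ∈ D, ∀ x ∈ F, g * x * g⁻¹ ∈ F := by
    rintro g hg _ ⟨y, hy, rfl⟩
    exact ⟨_, hF0n.conj_mem y hy ⟨g, hg⟩, rfl⟩
  have hcentF : ∀ g ∈ E, (∀ x ∈ F, g * x = x * g) → g ∈ F := fun g hg h =>
    (hmemF g (hED hg)).2 (hF0cent ⟨g, hED hg⟩ hg fun x hx => Subtype.ext (h _ ⟨x, hx, rfl⟩))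
  -- an involution interchanging the two points
  have htwo : 2 ∣ Nat.card H := by
    haveI : IsPretransitive H Ω := isPretransitive_of_is_two_pretransitive
    have h1 := (stabilizer H a).card_mul_index
    rw [index_stabilizer_of_transitive] at h1
    obtain ⟨j, hj⟩ := heven
    exact h1 ▸ Dvd.dvd.mul_left ⟨j, by rw [hj, two_mul]⟩ _
  obtain ⟨t, htH, htt, hta, htb⟩ : ∃ t : G, t ∈ H ∧ t * t = 1 ∧ t • a = b ∧ t • b = a := by
    obtain ⟨⟨u, huH⟩, hu⟩ := exists_prime_orderOf_dvd_card' 2 htwo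
    rw [Subgroup.orderOf_mk] at hu
    have huu : u * u = 1 := by rw [← pow_two, ← hu, pow_orderOf_eq_one]
    obtain ⟨x, hx⟩ : ∃ x : Ω, u • x ≠ x := by
      by_contra! h
      have : u = 1 := eq_of_smul_eq_smul fun x : Ω => by rw [h, one_smul]
      rw [this, orderOf_one] at hu
      omega
    obtain ⟨⟨g, hgH⟩, ga, gb⟩ := MulAction.is_two_pretransitive_iff.1 hH2 (Ne.symm hx) hab
    change g • x = a at ga
    change g • u • x = b at gb
    refine ⟨g * u * g⁻¹, H.mul_mem (H.mul_mem hgH huH) (H.inv_mem hgH), ?_, ?_, ?_⟩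
    · calc g * u * g⁻¹ * (g * u * g⁻¹) = g * (u * u) * g⁻¹ := by group
        _ = 1 := by rw [huu]; group
    · rw [mul_smul, mul_smul, ← ga, inv_smul_smul, gb]
    · rw [mul_smul, mul_smul, ← gb, inv_smul_smul, ← mul_smul u u, huu, one_smul, ga]
  have tinv : t⁻¹ = t := inv_eq_of_mul_eq_one_right htt
  have htE : ∀ x ∈ E, t * x * t ∈ E := by
    intro x hx
    obtain ⟨xH, xa, xb⟩ := mem_pairH.1 hx
    exact mem_pairH.2 ⟨H.mul_mem (H.mul_mem htH xH) htH,
      by rw [mul_smul, mul_smul, hta, xb, htb], by rw [mul_smul, mul_smul, htb, xa, hta]⟩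
  have htF : ∀ x ∈ F, t * x * t⁻¹ ∈ F := by
    have tt' : ∀ x : G, t * (t * x) = x := fun x => by rw [← mul_assoc, htt, one_mul]
    let φ : EN ≃* EN :=
      { toFun := fun x => ⟨⟨t * ((x : D) : G) * t, hED (htE _ x.2)⟩, htE _ x.2⟩
        invFun := fun x => ⟨⟨t * ((x : D) : G) * t, hED (htE _ x.2)⟩, htE _ x.2⟩
        left_inv := fun x => Subtype.ext (Subtype.ext (by simp [mul_assoc, tt', htt]))
        right_inv := fun x => Subtype.ext (Subtype.ext (by simp [mul_assoc, tt', htt]))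
        map_mul' := fun x y => Subtype.ext (Subtype.ext (by simp [mul_assoc, tt'])) }
    rintro _ ⟨y, hy, rfl⟩
    rw [tinv]
    exact ⟨_, hF0char φ ⟨y, hF0E hy⟩ hy, rfl⟩
  have hcen : ∀ g ∈ D, ∀ x ∈ E, g * x * g⁻¹ * x⁻¹ ∈ F := by
    intro g hg x hx
    refine hcentF _ (E.mul_mem (hEconj g hg x hx) (E.inv_mem hx)) fun y hy => ?_
    have h1 := conj_comm_of_cyclic (hFn g hg) (hFn x (hED hx))
    have hz : x⁻¹ * y * x⁻¹⁻¹ ∈ F := hFn _ (D.inv_mem (hED hx)) y hy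
    have hw : g⁻¹ * (x⁻¹ * y * x⁻¹⁻¹) * g⁻¹⁻¹ ∈ F := hFn _ (D.inv_mem hg) _ hz
    have h2 := h1 _ hw
    have e1 : g * (x * (g⁻¹ * (x⁻¹ * y * x⁻¹⁻¹) * g⁻¹⁻¹) * x⁻¹) * g⁻¹ =
        (g * x * g⁻¹ * x⁻¹) * y * (g * x * g⁻¹ * x⁻¹)⁻¹ := by group
    have e2 : x * (g * (g⁻¹ * (x⁻¹ * y * x⁻¹⁻¹) * g⁻¹⁻¹) * g⁻¹) * x⁻¹ = y := by group
    rw [e1, e2] at h2
    exact mul_inv_eq_iff_eq_mul.1 h2
  have hct : ∀ x ∈ E, t * x * t * x⁻¹ ∈ F := by
    intro x hx
    refine hcentF _ (E.mul_mem (htE x hx) (E.inv_mem hx)) fun y hy => ?_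
    have h1 := conj_comm_of_cyclic htF (hFn x (hED hx))
    have hz : x⁻¹ * y * x⁻¹⁻¹ ∈ F := hFn _ (D.inv_mem (hED hx)) y hy
    have hw : t⁻¹ * (x⁻¹ * y * x⁻¹⁻¹) * t⁻¹⁻¹ ∈ F := by
      have := htF _ hz
      simpa [tinv] using this
    have h2 := h1 _ hw
    have e1 : t * (x * (t⁻¹ * (x⁻¹ * y * x⁻¹⁻¹) * t⁻¹⁻¹) * x⁻¹) * t⁻¹ =
        (t * x * t⁻¹ * x⁻¹) * y * (t * x * t⁻¹ * x⁻¹)⁻¹ := by group
    have e2 : x * (t * (t⁻¹ * (x⁻¹ * y * x⁻¹⁻¹) * t⁻¹⁻¹) * t⁻¹) * x⁻¹ = y := by group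
    rw [e1, e2, tinv] at h2
    exact mul_inv_eq_iff_eq_mul.1 h2
  have hsq : ∀ x ∈ E, x * x ∈ F → x ∈ F := fun x hx h =>
    (hmemF x (hED hx)).2 (hF0sq ⟨x, hED hx⟩ hx ((hmemF _ (D.mul_mem (hED hx) (hED hx))).1 h))
  have hA : Aff H a b Q t := ⟨hab, hsimple, hH2, hQ, hQn, hQfree, hQtr, htH, htt, hta, htb, htrQ⟩
  have heF : e ∈ F := hA.pair_le F hFE hFn hcen hct hsq he
  -- a fixed vector
  obtain ⟨q, hq, rfl⟩ := hQtr b c hab.symm hca
  have hq1 : q ≠ 1 := by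
    rintro rfl
    exact hcb (one_smul G b)
  have hea : e • a = a := (mem_pairH.1 he).2.1
  have heb : e • b = b := (mem_pairH.1 he).2.2
  have hfix : e * q * e⁻¹ = q := by
    have h1 : (e * q * e⁻¹) • b = q • b := by
      rw [mul_smul, mul_smul, inv_smul_eq_iff.2 heb.symm, hec]
    have := hQfree _ (Q.mul_mem (Q.inv_mem hq) (hQn e hea q hq)) b hab.symm
      (by rw [mul_smul, h1, inv_smul_smul])
    exact (inv_mul_eq_one.1 this).symm
  have h0 := hF0free ⟨e, hED he⟩ ((hmemF e (hED he)).1 heF) (Additive.ofMul ⟨q, hq⟩)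
    (fun h => hq1 (congrArg (fun v : V => ((Additive.toMul v : Q) : G)) h))
    (Additive.toMul.injective (Subtype.ext hfix))
  exact congrArg Subtype.val h0

end Cfsg.Agent.Lib.TriThree76
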