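import Mathlib

/-!
# A simple split rank-one group in a triply transitive group has no odd field automorphisms

`H` is a simple normal subgroup, doubly transitive, whose point stabiliser splits as `Q E` with `Q`
regular on the other points.  If `F ≤ E` is normalised by everything, `E / F` is central, centralised
by an involution interchanging the two points and without involutions, then `E = F`: the class
`α v` of the middle term of `t v t = v₁ t e v₂` is constant on `Q - 1` and equal to its inverse.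
-/

set_option autoImplicit false
set_option linter.unusedSectionVars false
set_option linter.style.haveILetI false

namespace Cfsg.Agent.Lib.TriThree76

open MulAction

variable {G : Type*} [Group G] [Finite G] {Ω : Type*} [MulAction G Ω] [FaithfulSMul G Ω]

/-- The two point stabiliser in `H`. -/
abbrev pairH (H : Subgroup G) (a b : Ω) : Subgroup G := H ⊓ stabilizer G a ⊓ stabilizer G b

theorem mem_pairH {H : Subgroup G} {a b : Ω} {g : G} :
    g ∈ pairH H a b ↔ g ∈ H ∧ g • a = a ∧ g • b = b := by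
  simp [Subgroup.mem_inf, and_assoc]

/-- The data of the affine case. -/
structure Aff (H : Subgroup G) (a b : Ω) (Q : Subgroup G) (t : G) : Prop where
  ne : a ≠ b
  simple : IsSimpleGroup H
  two : IsMultiplyPretransitive H Ω 2
  Q_le : Q ≤ H ⊓ stabilizer G a
  Q_conj : ∀ g ∈ stabilizer G a, ∀ q ∈ Q, g * q * g⁻¹ ∈ Q
  Q_free : ∀ q ∈ Q, ∀ c, c ≠ a → q • c = c → q = 1
  Q_trans : ∀ c d, c ≠ a → d ≠ a → ∃ q ∈ Q, q • c = d
  t_mem : t ∈ H
  tt : t * t = 1
  ta : t • a = b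
  tb : t • b = a
  trans : ∀ q ∈ Q, q ≠ 1 → ∀ q' ∈ Q, q' ≠ 1 →
    ∃ g ∈ stabilizer G a ⊓ stabilizer G b, g * q * g⁻¹ = q'

variable {H : Subgroup G} [H.Normal] {a b : Ω} {Q : Subgroup G} {t : G}

theorem Aff.t_conj (hA : Aff H a b Q t) {e : G} (he : e ∈ pairH H a b) :
    t * e * t ∈ pairH H a b := by
  obtain ⟨heH, hea, heb⟩ := mem_pairH.1 he
  refine mem_pairH.2 ⟨H.mul_mem (H.mul_mem hA.t_mem heH) hA.t_mem, ?_, ?_⟩
  · rw [mul_smul, mul_smul, hA.ta, heb, hA.tb]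
  · rw [mul_smul, mul_smul, hA.tb, hea, hA.ta]

theorem Aff.decomp (hA : Aff H a b Q t) {v : G} (hv : v ∈ Q) (hv1 : v ≠ 1) :
    ∃ e ∈ pairH H a b, ∃ v₁ ∈ Q, ∃ v₂ ∈ Q, t * v * t = v₁ * t * e * v₂ := by
  have hva : v • a = a := (Subgroup.mem_inf.1 (hA.Q_le hv)).2
  have hc : t • v • b ≠ a := by
    intro h
    have h1 : v • b = b := by
      have := congrArg (fun x => t • x) h
      simpa [← mul_smul, ← mul_assoc, hA.tt, hA.ta] using this
    exact hv1 (hA.Q_free v hv b hA.ne.symm h1)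
  obtain ⟨v₁, hv₁, h1⟩ := hA.Q_trans b (t • v • b) hA.ne.symm hc
  set g := (v₁ * t)⁻¹ * (t * v * t) with hg
  have hgH : g ∈ H := H.mul_mem (H.inv_mem (H.mul_mem (Subgroup.mem_inf.1 (hA.Q_le hv₁)).1 hA.t_mem))
    (H.mul_mem (H.mul_mem hA.t_mem (Subgroup.mem_inf.1 (hA.Q_le hv)).1) hA.t_mem)
  have hga : g • a = a := by
    rw [hg, mul_smul, inv_smul_eq_iff, mul_smul, mul_smul, hA.ta, mul_smul, hA.ta, h1]
  obtain ⟨q, hq, h2⟩ := hA.Q_trans b (g • b) hA.ne.symm
    (fun h => hA.ne.symm (smul_left_cancel g (h.trans hga.symm)))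
  have he : q⁻¹ * g ∈ pairH H a b := mem_pairH.2
    ⟨H.mul_mem (H.inv_mem (Subgroup.mem_inf.1 (hA.Q_le hq)).1) hgH,
      by rw [mul_smul, hga, inv_smul_eq_iff]; exact ((Subgroup.mem_inf.1 (hA.Q_le hq)).2).symm,
      by rw [mul_smul, inv_smul_eq_iff, h2]⟩
  refine ⟨q⁻¹ * g, he, v₁, hv₁, (q⁻¹ * g)⁻¹ * q * (q⁻¹ * g), ?_, ?_⟩
  · have := hA.Q_conj (q⁻¹ * g)⁻¹ (Subgroup.inv_mem _ (mem_pairH.1 he).2.1) q hq
    simpa using this
  · calc t * v * t = v₁ * t * g := by rw [hg]; group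
      _ = _ := by group

theorem Aff.decomp_unique (hA : Aff H a b Q t) {e e' v₁ v₁' v₂ v₂' : G} (he : e ∈ pairH H a b)
    (he' : e' ∈ pairH H a b) (h1 : v₁ ∈ Q) (h1' : v₁' ∈ Q) (h2 : v₂ ∈ Q) (h2' : v₂' ∈ Q)
    (h : v₁ * t * e * v₂ = v₁' * t * e' * v₂') : e = e' := by
  obtain ⟨-, hea, heb⟩ := mem_pairH.1 he
  obtain ⟨-, hea', heb'⟩ := mem_pairH.1 he'
  have hfix : ∀ q ∈ Q, q • a = a := fun q hq => (Subgroup.mem_inf.1 (hA.Q_le hq)).2
  have hb : v₁ • b = v₁' • b := by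
    have := congrArg (fun g : G => g • a) h
    simpa [mul_smul, hfix _ h2, hfix _ h2', hea, hea', hA.ta] using this
  have e1 : v₁ = v₁' := by
    have := hA.Q_free (v₁'⁻¹ * v₁) (Q.mul_mem (Q.inv_mem h1') h1) b hA.ne.symm
      (by rw [mul_smul, hb, inv_smul_smul])
    exact (inv_mul_eq_one.1 this).symm
  subst e1
  have h3 : e * v₂ = e' * v₂' := by
    rw [mul_assoc, mul_assoc v₁ t, mul_assoc, mul_assoc] at h
    simpa [mul_assoc] using mul_left_cancel (mul_left_cancel h)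
  have h4 : e'⁻¹ * e = v₂' * v₂⁻¹ := by
    calc e'⁻¹ * e = e'⁻¹ * (e * v₂) * v₂⁻¹ := by group
      _ = v₂' * v₂⁻¹ := by rw [h3]; group
  have h5 : v₂' * v₂⁻¹ = 1 := hA.Q_free _ (Q.mul_mem h2' (Q.inv_mem h2)) b hA.ne.symm
    (by rw [← h4, mul_smul, heb, inv_smul_eq_iff, heb'])
  rw [h5] at h4
  exact (inv_mul_eq_one.1 h4).symm

/-- `E = F`. -/
theorem Aff.pair_le (hA : Aff H a b Q t) (F : Subgroup G) (hFE : F ≤ pairH H a b)
    (hFn : ∀ g ∈ stabilizer G a ⊓ stabilizer G b, ∀ x ∈ F, g * x * g⁻¹ ∈ F)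
    (hcen : ∀ g ∈ stabilizer G a ⊓ stabilizer G b, ∀ e ∈ pairH H a b, g * e * g⁻¹ * e⁻¹ ∈ F)
    (hct : ∀ e ∈ pairH H a b, t * e * t * e⁻¹ ∈ F)
    (hsq : ∀ e ∈ pairH H a b, e * e ∈ F → e ∈ F) : pairH H a b ≤ F := by
  classical
  set E := pairH H a b with hE
  have hED : E ≤ stabilizer G a ⊓ stabilizer G b := fun g hg =>
    Subgroup.mem_inf.2 (mem_pairH.1 hg).2
  haveI hFN : (F.subgroupOf E).Normal :=
    ⟨fun x hx g => hFn g (hED g.2) x hx⟩
  let A := ↥E ⧸ F.subgroupOf E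
  letI : CommGroup A :=
    { (inferInstance : Group A) with
      mul_comm := fun x y => by
        obtain ⟨x, rfl⟩ := QuotientGroup.mk_surjective x
        obtain ⟨y, rfl⟩ := QuotientGroup.mk_surjective y
        show ((x * y : ↥E) : A) = ((y * x : ↥E) : A)
        rw [eq_comm, QuotientGroup.eq]
        show ((y : G) * x)⁻¹ * ((x : G) * y) ∈ F
        have := hcen (x : G)⁻¹ (hED (E.inv_mem x.2)) (y : G)⁻¹ (E.inv_mem y.2)
        simpa [mul_assoc] using this }
  let χ : ↥E →* A := QuotientGroup.mk' _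
  have hχ : ∀ e e' : ↥E, (e : G) * (e' : G)⁻¹ ∈ F → χ e = χ e' := by
    intro e e' h
    rw [← mul_inv_eq_one, ← map_inv, ← map_mul]
    exact (QuotientGroup.eq_one_iff _).2 h
  have hsqA : ∀ x : A, x * x = 1 → x = 1 := by
    intro x hx
    obtain ⟨e, rfl⟩ := QuotientGroup.mk'_surjective (F.subgroupOf E) x
    rw [← map_mul] at hx
    exact (QuotientGroup.eq_one_iff (N := F.subgroupOf E) e).2
      (hsq e e.2 ((QuotientGroup.eq_one_iff (N := F.subgroupOf E) (e * e)).1 hx))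
  choose α hα using fun v : {v : G // v ∈ Q ∧ v ≠ 1} => hA.decomp v.2.1 v.2.2
  let c : {v : G // v ∈ Q ∧ v ≠ 1} → A := fun v => χ ⟨α v, (hα v).1⟩
  have hval : ∀ (v : {v : G // v ∈ Q ∧ v ≠ 1}) (e : ↥E) (v₁ v₂ : G), v₁ ∈ Q → v₂ ∈ Q →
      t * v * t = v₁ * t * e * v₂ → c v = χ e := by
    intro v e v₁ v₂ h1 h2 h
    obtain ⟨he, w₁, hw₁, w₂, hw₂, hw⟩ := hα v
    exact congrArg χ (Subtype.ext (hA.decomp_unique he e.2 hw₁ h1 hw₂ h2 (hw.symm.trans h)))
  have tinv : t⁻¹ = t := inv_eq_of_mul_eq_one_right hA.tt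
  have tcancel : ∀ x : G, t * (t * x) = x := fun x => by rw [← mul_assoc, hA.tt, one_mul]
  -- the inverse
  let vinv : {v : G // v ∈ Q ∧ v ≠ 1} → {v : G // v ∈ Q ∧ v ≠ 1} :=
    fun v => ⟨(v : G)⁻¹, Q.inv_mem v.2.1, inv_ne_one.2 v.2.2⟩
  have hinv : ∀ v, c (vinv v) = (c v)⁻¹ := by
    intro v
    obtain ⟨he, w₁, hw₁, w₂, hw₂, hw⟩ := hα v
    rw [hval (vinv v) ⟨_, hA.t_conj (E.inv_mem he)⟩ w₂⁻¹ w₁⁻¹ (Q.inv_mem hw₂) (Q.inv_mem hw₁)]
    · show χ _ = (χ _)⁻¹
      rw [← map_inv]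
      refine hχ _ _ ?_
      show t * (α v)⁻¹ * t * ((α v)⁻¹)⁻¹ ∈ F
      exact hct _ (E.inv_mem he)
    · show t * (v : G)⁻¹ * t = _
      calc t * (v : G)⁻¹ * t = (t * v * t)⁻¹ := by rw [mul_inv_rev, mul_inv_rev, tinv, mul_assoc]
        _ = w₂⁻¹ * (α v)⁻¹ * t * w₁⁻¹ := by rw [hw]; simp only [mul_inv_rev, tinv, mul_assoc]
        _ = w₂⁻¹ * t * (t * (α v)⁻¹ * t) * w₁⁻¹ := by simp only [mul_assoc, tcancel]
  -- conjugation
  have hconj : ∀ g ∈ stabilizer G a ⊓ stabilizer G b, ∃ ψ : A, ∀ v w : {v : G // v ∈ Q ∧ v ≠ 1},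
      g * v * g⁻¹ = w → c w = c v * ψ := by
    intro g hg
    obtain ⟨hga, hgb⟩ := Subgroup.mem_inf.1 hg
    rw [mem_stabilizer_iff] at hga hgb
    set g' := t * g * t with hg'
    have hg'a : g' • a = a := by rw [hg', mul_smul, mul_smul, hA.ta, hgb, hA.tb]
    have hg'b : g' • b = b := by rw [hg', mul_smul, mul_smul, hA.tb, hga, hA.ta]
    have he0 : g * g'⁻¹ ∈ E := by
      refine mem_pairH.2 ⟨?_, ?_, ?_⟩
      · have h1 : g * t⁻¹ * g⁻¹ * t ∈ H := H.mul_mem
          (Subgroup.Normal.conj_mem inferInstance _ (H.inv_mem hA.t_mem) g) hA.t_mem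
        have h2 : t * (g * t⁻¹ * g⁻¹ * t) * t⁻¹ ∈ H := Subgroup.Normal.conj_mem inferInstance _ h1 t
        have h3 := Subgroup.Normal.conj_mem inferInstance _ h2 t
        convert h3 using 1
        rw [hg']
        simp [tinv, mul_assoc, tcancel, hA.tt]
      · rw [mul_smul, inv_smul_eq_iff.2 hg'a.symm, hga]
      · rw [mul_smul, inv_smul_eq_iff.2 hg'b.symm, hgb]
    refine ⟨χ ⟨_, he0⟩, fun v w hvw => ?_⟩
    obtain ⟨he, w₁, hw₁, w₂, hw₂, hw⟩ := hα v
    have heconj : g * α v * g⁻¹ ∈ E := by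
      obtain ⟨heH, hea, heb⟩ := mem_pairH.1 he
      exact mem_pairH.2 ⟨Subgroup.Normal.conj_mem inferInstance _ heH g,
        by rw [mul_smul, mul_smul, inv_smul_eq_iff.2 hga.symm, hea, hga],
        by rw [mul_smul, mul_smul, inv_smul_eq_iff.2 hgb.symm, heb, hgb]⟩
    rw [hval w (⟨_, heconj⟩ * ⟨_, he0⟩) (g' * w₁ * g'⁻¹) (g' * w₂ * g'⁻¹)
      (hA.Q_conj g' hg'a _ hw₁) (hA.Q_conj g' hg'a _ hw₂)]
    · rw [map_mul]
      congr 1
      exact hχ _ _ (hcen g hg _ he)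
    · rw [Subgroup.coe_mul]
      have e1 : g' * t = t * g := by rw [hg', mul_assoc, hA.tt, mul_one]
      calc t * (w : G) * t = t * g * v * (t * g)⁻¹ := by
            rw [← hvw, mul_inv_rev, tinv]; group
        _ = g' * (t * v * t) * g'⁻¹ := by
            rw [← e1, mul_inv_rev, tinv]; simp only [mul_assoc]
        _ = g' * (w₁ * t * α v * w₂) * g'⁻¹ := by rw [hw]
        _ = g' * w₁ * g'⁻¹ * (g' * t) * α v * g'⁻¹ * (g' * w₂ * g'⁻¹) := by group
        _ = g' * w₁ * g'⁻¹ * t * (g * α v * g⁻¹ * (g * g'⁻¹)) * (g' * w₂ * g'⁻¹) := by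
            rw [e1]; group
  -- `c` is constant
  have hconst : ∀ v w, c v = c w := by
    intro v w
    obtain ⟨g, hg, hgv⟩ := hA.trans v v.2.1 v.2.2 w w.2.1 w.2.2
    obtain ⟨ψ, hψ⟩ := hconj g hg
    have h1 := hψ v w hgv
    have h2 := hψ (vinv v) (vinv w) (by
      show g * (v : G)⁻¹ * g⁻¹ = (w : G)⁻¹
      rw [← hgv]; group)
    rw [hinv, hinv, h1, mul_inv] at h2
    rw [h1, hsqA ψ (inv_eq_iff_mul_eq_one.1 (mul_left_cancel h2)), mul_one]
  have hc1 : ∀ v, c v = 1 := fun v => by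
    refine hsqA _ ?_
    nth_rw 2 [hconst v (vinv v)]
    rw [hinv, mul_inv_cancel]
  have hαF : ∀ v : {v : G // v ∈ Q ∧ v ≠ 1}, α v ∈ F := fun v =>
    (QuotientGroup.eq_one_iff (N := F.subgroupOf E) (⟨α v, (hα v).1⟩ : ↥E)).1 (hc1 v)
  -- the proper normal subgroup
  let gen : Set G := (Q : Set G) ∪ (F : Set G) ∪ {t}
  let N : Subgroup G := Subgroup.closure gen
  let S0 : Set G := {x | (∃ q ∈ Q, ∃ e ∈ F, x = q * e) ∨
    ∃ q ∈ Q, ∃ e ∈ F, ∃ q' ∈ Q, x = q * t * e * q'}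
  have hfix : ∀ q ∈ Q, q • a = a := fun q hq => (Subgroup.mem_inf.1 (hA.Q_le hq)).2
  have hFa : ∀ x ∈ F, x • a = a := fun x hx => (mem_pairH.1 (hFE hx)).2.1
  have hFQ : ∀ x ∈ F, ∀ q ∈ Q, x * q * x⁻¹ ∈ Q := fun x hx q hq => hA.Q_conj x (hFa x hx) q hq
  have htF : ∀ x ∈ F, t * x * t ∈ F := fun x hx => by
    have h := F.mul_mem (hct x (hFE hx)) hx
    simpa [mul_assoc] using h
  have hgen : ∀ g ∈ gen, ∀ x ∈ S0, g * x ∈ S0 := by
    rintro g ((hg | hg) | hg) x hx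
    · rcases hx with ⟨q, hq, e, he, rfl⟩ | ⟨q, hq, e, he, q', hq', rfl⟩
      · exact Or.inl ⟨g * q, Q.mul_mem hg hq, e, he, by group⟩
      · exact Or.inr ⟨g * q, Q.mul_mem hg hq, e, he, q', hq', by group⟩
    · rcases hx with ⟨q, hq, e, he, rfl⟩ | ⟨q, hq, e, he, q', hq', rfl⟩
      · exact Or.inl ⟨g * q * g⁻¹, hFQ g hg q hq, g * e, F.mul_mem hg he, by group⟩
      · refine Or.inr ⟨g * q * g⁻¹, hFQ g hg q hq, (t * g * t) * e, F.mul_mem (htF g hg) he, q', hq', ?_⟩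
        calc g * (q * t * e * q') = g * q * g⁻¹ * (g * t) * e * q' := by group
          _ = g * q * g⁻¹ * t * (t * g * t * e) * q' := by simp only [mul_assoc, tcancel]
    · rw [Set.mem_singleton_iff] at hg
      subst hg
      rcases hx with ⟨q, hq, e, he, rfl⟩ | ⟨q, hq, e, he, q', hq', rfl⟩
      · refine Or.inr ⟨1, Q.one_mem, e, he, e⁻¹ * q * e, ?_, by group⟩
        simpa using hFQ e⁻¹ (F.inv_mem he) q hq
      · by_cases hq1 : q = 1
        · subst hq1
          refine Or.inl ⟨e * q' * e⁻¹, hFQ e he q' hq', e, he, ?_⟩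
          simp only [mul_assoc, one_mul, tcancel, inv_mul_cancel, mul_one]
        · obtain ⟨hee, w₁, hw₁, w₂, hw₂, hw⟩ := hα ⟨q, hq, hq1⟩
          refine Or.inr ⟨w₁, hw₁, α ⟨q, hq, hq1⟩ * e, F.mul_mem (hαF _) he,
            e⁻¹ * w₂ * e * q', Q.mul_mem (by simpa using hFQ e⁻¹ (F.inv_mem he) w₂ hw₂) hq', ?_⟩
          calc g * (q * g * e * q') = g * q * g * e * q' := by group
            _ = w₁ * g * α ⟨q, hq, hq1⟩ * w₂ * e * q' := by rw [hw]
            _ = _ := by group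
  have hNS : ∀ g ∈ N, g ∈ S0 := by
    have key : ∀ g ∈ N, ∀ x ∈ S0, g * x ∈ S0 := by
      intro g hg
      refine Subgroup.closure_induction_left (p := fun g _ => ∀ x ∈ S0, g * x ∈ S0) ?_ ?_ ?_ hg
      · intro x hx; rwa [one_mul]
      · intro y hy z _ ih x hx
        rw [mul_assoc]; exact hgen y hy _ (ih x hx)
      · intro y hy z _ ih x hx
        rw [mul_assoc]
        have hyy : y⁻¹ ∈ gen := by
          rcases hy with (h | h) | h
          · exact Or.inl (Or.inl (Q.inv_mem h))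
          · exact Or.inl (Or.inr (F.inv_mem h))
          · rw [Set.mem_singleton_iff] at h
            rw [h, tinv]; exact Or.inr rfl
        exact hgen _ hyy _ (ih x hx)
    intro g hg
    have := key g hg 1 (Or.inl ⟨1, Q.one_mem, 1, F.one_mem, (one_mul 1).symm⟩)
    rwa [mul_one] at this
  have hNH : N ≤ H := by
    rw [Subgroup.closure_le]
    rintro x ((hx | hx) | hx)
    · exact (Subgroup.mem_inf.1 (hA.Q_le hx)).1
    · exact (mem_pairH.1 (hFE hx)).1
    · rw [Set.mem_singleton_iff] at hx; rw [hx]; exact hA.t_mem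
  have hEN : E ≤ Subgroup.normalizer (N : Set G) := by
    have key : ∀ e ∈ E, ∀ x ∈ N, e * x * e⁻¹ ∈ N := by
      intro e he x hx
      have hle : N ≤ N.comap (MulAut.conj e).toMonoidHom := by
        rw [Subgroup.closure_le]
        rintro y ((hy | hy) | hy)
        · exact Subgroup.subset_closure (Or.inl (Or.inl (hA.Q_conj e (mem_pairH.1 he).2.1 y hy)))
        · exact Subgroup.subset_closure (Or.inl (Or.inr (hFn e (hED he) y hy)))
        · rw [Set.mem_singleton_iff] at hy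
          subst hy
          show e * y * e⁻¹ ∈ N
          have h1 : y * e * y * e⁻¹ ∈ N := Subgroup.subset_closure (Or.inl (Or.inr (hct e he)))
          have := N.mul_mem (Subgroup.subset_closure (Or.inr rfl : y ∈ gen)) h1
          simpa [mul_assoc, tcancel] using this
      exact hle hx
    intro e he
    rw [Subgroup.mem_normalizer_iff]
    refine fun x => ⟨key e he x, fun hx => ?_⟩
    have := key e⁻¹ (E.inv_mem he) _ hx
    simpa [mul_assoc] using this
  have hHa : H ⊓ stabilizer G a ≤ Subgroup.normalizer (N : Set G) := by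
    intro g hg
    obtain ⟨hgH, hga⟩ := Subgroup.mem_inf.1 hg
    obtain ⟨q, hq, h2⟩ := hA.Q_trans b (g • b) hA.ne.symm
      (fun h => hA.ne.symm (smul_left_cancel g (h.trans (mem_stabilizer_iff.1 hga).symm)))
    have he : q⁻¹ * g ∈ E := mem_pairH.2
      ⟨H.mul_mem (H.inv_mem (Subgroup.mem_inf.1 (hA.Q_le hq)).1) hgH,
        by rw [mul_smul, mem_stabilizer_iff.1 hga, inv_smul_eq_iff]; exact (hfix q hq).symm,
        by rw [mul_smul, inv_smul_eq_iff, h2]⟩
    have hqN : q ∈ Subgroup.normalizer (N : Set G) :=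
      Subgroup.le_normalizer (Subgroup.subset_closure (Or.inl (Or.inl hq)) : q ∈ N)
    have := mul_mem hqN (hEN he)
    rwa [mul_inv_cancel_left] at this
  have htN : t ∈ Subgroup.normalizer (N : Set G) :=
    Subgroup.le_normalizer (Subgroup.subset_closure (Or.inr rfl) : t ∈ N)
  haveI := hA.two
  haveI : IsPreprimitive H Ω := isPreprimitive_of_is_two_pretransitive hA.two
  haveI : Nontrivial Ω := ⟨a, b, hA.ne⟩
  haveI : (N.subgroupOf H).Normal := by
    rw [← Subgroup.normalizer_eq_top_iff, eq_top_iff]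
    have hco : IsCoatom (stabilizer H a) := (isCoatom_stabilizer_iff_preprimitive (G := H) a).2 inferInstance
    have h2 : stabilizer H a < stabilizer H a ⊔ Subgroup.zpowers ⟨t, hA.t_mem⟩ := by
      refine lt_of_le_of_ne le_sup_left fun h => hA.ne ?_
      have ht : (⟨t, hA.t_mem⟩ : H) ∈ stabilizer H a :=
        h.symm ▸ le_sup_right (a := stabilizer H a) (Subgroup.mem_zpowers _)
      exact ht.symm.trans hA.ta
    rw [← hco.2 _ h2]
    refine sup_le (fun x hx => ?_) (Subgroup.zpowers_le.2 ?_)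
    · have hx' : (x : G) ∈ Subgroup.normalizer (N : Set G) :=
        hHa (Subgroup.mem_inf.2 ⟨x.2, hx⟩)
      rw [Subgroup.mem_normalizer_iff] at hx' ⊢
      exact fun y => hx' (y : G)
    · rw [Subgroup.mem_normalizer_iff] at htN ⊢
      exact fun y => htN (y : G)
  have := hA.simple
  rcases (inferInstance : (N.subgroupOf H).Normal).eq_bot_or_eq_top with hb | htop
  · exfalso
    have h1 : (⟨t, hA.t_mem⟩ : H) ∈ N.subgroupOf H :=
      Subgroup.subset_closure (Or.inr rfl : t ∈ gen)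
    rw [hb, Subgroup.mem_bot] at h1
    have : t = 1 := congrArg Subtype.val h1
    exact hA.ne (by rw [← hA.ta, this, one_smul])
  · intro e he
    have heN : e ∈ N := by
      have : (⟨e, (mem_pairH.1 he).1⟩ : H) ∈ N.subgroupOf H := htop ▸ Subgroup.mem_top _
      exact this
    obtain ⟨-, hea, heb⟩ := mem_pairH.1 he
    rcases hNS e heN with ⟨q, hq, x, hx, rfl⟩ | ⟨q, hq, x, hx, q', hq', rfl⟩
    · have hq1 : q = 1 := by
        refine hA.Q_free q hq b hA.ne.symm ?_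
        rwa [mul_smul, (mem_pairH.1 (hFE hx)).2.2] at heb
      rw [hq1, one_mul]
      exact hx
    · exfalso
      rw [mul_smul, mul_smul, mul_smul, hfix q' hq', hFa x hx, hA.ta] at hea
      have := congrArg (fun y => q⁻¹ • y) hea
      simp only [inv_smul_smul] at this
      rw [inv_smul_eq_iff.2 (hfix q hq).symm] at this
      exact hA.ne this.symm

end Cfsg.Agent.Lib.TriThree76
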