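import Cfsg.Agent.Lib.TriThree76.Cocycle

/-!
# Orbits of a normal subgroup of a triply transitive group on ordered triples

The colours (orbits) correspond to the orbits of a two-point stabiliser on the other points, which
have equal size; if the degree is divisible by three, rotations fix every colour, and transpositions
fix all colours or none.
-/

set_option autoImplicit false
set_option linter.unusedSectionVars false
set_option linter.style.haveILetI false

namespace Cfsg.Agent.Lib.TriThree76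

open MulAction

universe u v

variable {G : Type u} [Group G] [Finite G] {Ω : Type v} [Finite Ω] [MulAction G Ω]
  [FaithfulSMul G Ω]

/-- The standing hypotheses. -/
structure Setting (G : Type u) [Group G] (Ω : Type v) [MulAction G Ω] : Prop where
  h3 : IsMultiplyPretransitive G Ω 3
  three : 3 ∣ Nat.card Ω
  big : 3 < Nat.card Ω

/-- The colours. -/
abbrev Col (H : Subgroup G) (Ω : Type v) [MulAction G Ω] :=
  MulAction.orbitRel.Quotient ↥H (Fin 3 ↪ Ω)

/-- An ordered triple of distinct points. -/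
def tri {x y z : Ω} (hxy : x ≠ y) (hxz : x ≠ z) (hyz : y ≠ z) : Fin 3 ↪ Ω :=
  ⟨![x, y, z], fun i j h => by
    fin_cases i <;> fin_cases j <;> simp_all [eq_comm]⟩

theorem tri_eta (T : Fin 3 ↪ Ω) : T = tri (x := T 0) (y := T 1) (z := T 2)
    (T.injective.ne (by decide)) (T.injective.ne (by decide)) (T.injective.ne (by decide)) := by
  ext i
  fin_cases i <;> rfl

theorem smul_tri_eq {g : G} {x y z : Ω} {hxy : x ≠ y} {hxz : x ≠ z} {hyz : y ≠ z} {T : Fin 3 ↪ Ω}
    (h0 : g • x = T 0) (h1 : g • y = T 1) (h2 : g • z = T 2) : g • tri hxy hxz hyz = T := by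
  ext i
  fin_cases i
  · exact h0
  · exact h1
  · exact h2

/-- The colour of a triple. -/
def colour (H : Subgroup G) (T : Fin 3 ↪ Ω) : Col H Ω := Quotient.mk'' T

theorem colour_surjective (H : Subgroup G) : Function.Surjective (colour (Ω := Ω) H) :=
  Quotient.mk''_surjective

theorem colour_eq_iff {H : Subgroup G} {T T' : Fin 3 ↪ Ω} :
    colour H T = colour H T' ↔ ∃ h ∈ H, ∀ i, h • T' i = T i := by
  rw [colour, colour, Quotient.eq'']
  constructor
  · rintro ⟨h, hh⟩
    exact ⟨h, h.2, fun i => congrArg (fun S : Fin 3 ↪ Ω => S i) hh⟩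
  · rintro ⟨h, hH, hh⟩
    exact ⟨⟨h, hH⟩, Function.Embedding.ext hh⟩

variable (hS : Setting G Ω)
include hS

theorem Setting.exists_map (T T' : Fin 3 ↪ Ω) : ∃ g : G, ∀ i, g • T i = T' i := by
  haveI := hS.h3
  obtain ⟨g, hg⟩ := MulAction.exists_smul_eq G T T'
  exact ⟨g, fun i => congrArg (fun S : Fin 3 ↪ Ω => S i) hg⟩

theorem Setting.exists_triple {x y z x' y' z' : Ω} (hxy : x ≠ y) (hxz : x ≠ z) (hyz : y ≠ z)
    (hxy' : x' ≠ y') (hxz' : x' ≠ z') (hyz' : y' ≠ z') :
    ∃ g : G, g • x = x' ∧ g • y = y' ∧ g • z = z' := by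
  obtain ⟨g, hg⟩ := hS.exists_map (tri hxy hxz hyz) (tri hxy' hxz' hyz')
  exact ⟨g, hg 0, hg 1, hg 2⟩

theorem Setting.two_group : IsMultiplyPretransitive G Ω 2 :=
  haveI := hS.h3
  isMultiplyPretransitive_of_le (n := 3) (by norm_num) hS.big.le

variable {H : Subgroup G} [H.Normal] (h2 : IsMultiplyPretransitive H Ω 2)
include h2

/-- Every colour has a representative `(a, b, *)`. -/
theorem Setting.exists_rep {a b : Ω} (hab : a ≠ b) (T : Fin 3 ↪ Ω) :
    ∃ c, ∃ (hac : a ≠ c) (hbc : b ≠ c), colour H (tri hab hac hbc) = colour H T := by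
  obtain ⟨h, ha, hb⟩ := MulAction.is_two_pretransitive_iff.1 h2
    (T.injective.ne (by decide : (0 : Fin 3) ≠ 1)) hab
  refine ⟨h • T 2, ?_, ?_, ?_⟩
  · rw [← ha]; exact fun e => absurd (T.injective (smul_left_cancel h e)) (by decide)
  · rw [← hb]; exact fun e => absurd (T.injective (smul_left_cancel h e)) (by decide)
  · exact colour_eq_iff.2 ⟨h, h.2, fun i => by fin_cases i <;> [exact ha; exact hb; rfl]⟩

omit hS h2 in
/-- Two representatives have the same colour iff the third points lie in one orbit. -/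
theorem colour_rep_eq {a b c c' : Ω} (hab : a ≠ b) (hac : a ≠ c) (hbc : b ≠ c) (hac' : a ≠ c')
    (hbc' : b ≠ c') :
    colour H (tri hab hac hbc) = colour H (tri hab hac' hbc') ↔
      c ∈ MulAction.orbit (pairH H a b) c' := by
  rw [colour_eq_iff]
  constructor
  · rintro ⟨h, hH, hh⟩
    exact ⟨⟨h, mem_pairH.2 ⟨hH, hh 0, hh 1⟩⟩, hh 2⟩
  · rintro ⟨⟨h, hh⟩, e⟩
    obtain ⟨hH, ha, hb⟩ := mem_pairH.1 hh
    exact ⟨h, hH, fun i => by fin_cases i <;> [exact ha; exact hb; exact e]⟩

omit h2 in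
/-- The orbits of the two-point stabiliser have equal size. -/
theorem Setting.card_orbit_eq {a b c c' : Ω} (hab : a ≠ b) (hac : a ≠ c) (hbc : b ≠ c)
    (hac' : a ≠ c') (hbc' : b ≠ c') :
    Nat.card (MulAction.orbit (pairH H a b) c) = Nat.card (MulAction.orbit (pairH H a b) c') := by
  have key : ∀ (c c' : Ω) (g : G), g • a = a → g • b = b → g • c = c' →
      Nat.card (MulAction.orbit (pairH H a b) c) ≤ Nat.card (MulAction.orbit (pairH H a b) c') := by
    intro c c' g ga gb gc
    refine Nat.card_le_card_of_injective (fun x => ⟨g • (x : Ω), ?_⟩) fun x y e =>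
      Subtype.ext (smul_left_cancel g (congrArg Subtype.val e))
    obtain ⟨⟨e, he⟩, hx⟩ := x.2
    obtain ⟨heH, hea, heb⟩ := mem_pairH.1 he
    refine ⟨⟨g * e * g⁻¹, mem_pairH.2 ⟨Subgroup.Normal.conj_mem inferInstance _ heH g,
      by rw [mul_smul, mul_smul, inv_smul_eq_iff.2 ga.symm, hea, ga],
      by rw [mul_smul, mul_smul, inv_smul_eq_iff.2 gb.symm, heb, gb]⟩⟩, ?_⟩
    show (g * e * g⁻¹) • c' = g • (x : Ω)
    rw [← gc, mul_smul, mul_smul, inv_smul_smul, show e • c = (x : Ω) from hx]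
  obtain ⟨g, ga, gb, gc⟩ := hS.exists_triple hab hac hbc hab hac' hbc'
  exact le_antisymm (key c c' g ga gb gc) (key c' c g⁻¹ (inv_smul_eq_iff.2 ga.symm)
    (inv_smul_eq_iff.2 gb.symm) (inv_smul_eq_iff.2 gc.symm))

/-- `k m = n - 2`. -/
theorem Setting.card_col_mul {a b c : Ω} (hab : a ≠ b) (hac : a ≠ c) (hbc : b ≠ c) :
    Nat.card (Col H Ω) * Nat.card (MulAction.orbit (pairH H a b) c) + 2 = Nat.card Ω := by
  classical
  haveI := Fintype.ofFinite Ω
  let X := {x : Ω // a ≠ x ∧ b ≠ x}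
  let φ : X → Col H Ω := fun x => colour H (tri hab x.2.1 x.2.2)
  have hφ : Function.Surjective φ := by
    intro q
    obtain ⟨T, rfl⟩ := colour_surjective H q
    obtain ⟨c', h1, h2', he⟩ := hS.exists_rep h2 hab T
    exact ⟨⟨c', h1, h2'⟩, he⟩
  haveI : Fintype (Col H Ω) := Fintype.ofFinite _
  have hfib : ∀ q : Col H Ω,
      Nat.card {x : X // φ x = q} = Nat.card (MulAction.orbit (pairH H a b) c) := by
    intro q
    obtain ⟨⟨c', h1, h2'⟩, rfl⟩ := hφ q
    rw [← hS.card_orbit_eq (H := H) hab h1 h2' hac hbc]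
    refine Nat.card_congr
      { toFun := fun x => ⟨((x : X) : Ω), (colour_rep_eq hab _ _ h1 h2').1 x.2⟩
        invFun := fun y => ⟨⟨(y : Ω), ?_, ?_⟩, (colour_rep_eq hab _ _ h1 h2').2 y.2⟩
        left_inv := fun x => rfl
        right_inv := fun y => rfl }
    · obtain ⟨⟨e, he⟩, hy⟩ := y.2
      intro h
      apply h1
      have : e • c' = e • a := by rw [(mem_pairH.1 he).2.1]; exact hy.trans h.symm
      exact (smul_left_cancel e this).symm
    · obtain ⟨⟨e, he⟩, hy⟩ := y.2
      intro h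
      apply h2'
      have : e • c' = e • b := by rw [(mem_pairH.1 he).2.2]; exact hy.trans h.symm
      exact (smul_left_cancel e this).symm
  have hX : Nat.card X + 2 = Nat.card Ω := by
    rw [Nat.card_eq_fintype_card, Nat.card_eq_fintype_card]
    have h1 : Fintype.card X = Fintype.card Ω - ({a, b} : Finset Ω).card := by
      rw [← Finset.card_compl, Fintype.card_subtype]
      congr 1
      ext x
      simp [eq_comm]
    have h2' := Finset.card_le_univ ({a, b} : Finset Ω)
    rw [Finset.card_pair hab] at h1 h2'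
    omega
  rw [← hX, ← Nat.card_congr (Equiv.sigmaFiberEquiv φ), Nat.card_sigma,
    Finset.sum_congr rfl (fun q _ => hfib q), Finset.sum_const, smul_eq_mul, Finset.card_univ,
    Nat.card_eq_fintype_card]

theorem Setting.exists_points : ∃ a b c : Ω, a ≠ b ∧ a ≠ c ∧ b ≠ c := by
  classical
  haveI := Fintype.ofFinite Ω
  exact Fintype.two_lt_card_iff.1 (by rw [← Nat.card_eq_fintype_card]; have := hS.big; omega)

theorem Setting.card_col_pos : 0 < Nat.card (Col H Ω) := by
  obtain ⟨a, b, c, hab, hac, hbc⟩ := hS.exists_points h2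
  haveI : Nonempty (Col H Ω) := ⟨colour H (tri hab hac hbc)⟩
  exact Nat.card_pos

theorem Setting.not_three_dvd_col : ¬ 3 ∣ Nat.card (Col H Ω) := by
  obtain ⟨a, b, c, hab, hac, hbc⟩ := hS.exists_points h2
  intro h
  have := hS.card_col_mul h2 hab hac hbc
  obtain ⟨i, hi⟩ := hS.three
  obtain ⟨j, hj⟩ := h
  rw [hj, hi, mul_assoc] at this
  omega

theorem Setting.not_three_dvd_orbit {a b c : Ω} (hab : a ≠ b) (hac : a ≠ c) (hbc : b ≠ c) :
    ¬ 3 ∣ Nat.card (MulAction.orbit (pairH H a b) c) := by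
  intro h
  have := hS.card_col_mul h2 hab hac hbc
  obtain ⟨i, hi⟩ := hS.three
  obtain ⟨j, hj⟩ := h
  rw [hj, hi, mul_left_comm] at this
  omega

omit h2 in
/-- A permutation of the positions fixes all colours or none. -/
theorem Setting.perm_all (π : Equiv.Perm (Fin 3)) (T : Fin 3 ↪ Ω)
    (hT : colour H (π.toEmbedding.trans T) = colour H T) (T' : Fin 3 ↪ Ω) :
    colour H (π.toEmbedding.trans T') = colour H T' := by
  obtain ⟨g, hg⟩ := hS.exists_map T T'
  obtain ⟨h, hH, hh⟩ := colour_eq_iff.1 hT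
  refine colour_eq_iff.2 ⟨g * h * g⁻¹, Subgroup.Normal.conj_mem inferInstance _ hH g, fun i => ?_⟩
  rw [mul_smul, mul_smul, ← hg i, inv_smul_smul, hh i]
  exact hg (π i)

/-- Rotations fix every colour. -/
theorem Setting.rotate {x y z : Ω} (hxy : x ≠ y) (hxz : x ≠ z) (hyz : y ≠ z) :
    ∃ h ∈ H, h • x = y ∧ h • y = z ∧ h • z = x := by
  classical
  haveI := Fintype.ofFinite Ω
  haveI : Fintype (Col H Ω) := Fintype.ofFinite _
  haveI := Fact.mk Nat.prime_three
  set π : Equiv.Perm (Fin 3) := finRotate 3 with hπ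
  let σ0 : Col H Ω → Col H Ω := Quotient.map' (fun T => π.toEmbedding.trans T) (by
    rintro T T' ⟨h, hh⟩
    exact ⟨h, Function.Embedding.ext fun i => congrArg (fun S : Fin 3 ↪ Ω => S (π i)) hh⟩)
  have hσ0 : ∀ T, σ0 (colour H T) = colour H (π.toEmbedding.trans T) := fun T => rfl
  have h33 : ∀ q, σ0 (σ0 (σ0 q)) = q := by
    intro q
    obtain ⟨T, rfl⟩ := colour_surjective H q
    rw [hσ0, hσ0, hσ0]
    congr 1
    ext i
    fin_cases i <;> rfl
  let σ : Equiv.Perm (Col H Ω) := ⟨σ0, fun q => σ0 (σ0 q), fun q => h33 q, fun q => h33 q⟩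
  have hex : ∃ q, σ q = q := by
    by_contra! hne
    have hpow : σ ^ 3 ^ 1 = 1 := Equiv.ext fun q => h33 q
    have hd : Finset.univ.filter (fun q => σ q = q) = ∅ :=
      Finset.filter_eq_empty_iff.2 fun q _ => hne q
    have := Equiv.Perm.card_compl_support_modEq hpow
    have hsupp : σ.support = Finset.univ := by
      ext q
      simp [hne q]
    rw [hsupp] at this
    simp only [Finset.compl_univ, Finset.card_empty] at this
    refine hS.not_three_dvd_col h2 ?_
    rw [Nat.card_eq_fintype_card]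
    exact (Nat.modEq_zero_iff_dvd).1 this.symm
  obtain ⟨q, hq⟩ := hex
  obtain ⟨T, rfl⟩ := colour_surjective H q
  have := hS.perm_all π T hq (tri hxy hxz hyz)
  obtain ⟨h, hH, hh⟩ := colour_eq_iff.1 this
  exact ⟨h, hH, hh 0, hh 1, hh 2⟩

omit h2 in
/-- If some transposition is induced in `H`, every one is. -/
theorem Setting.transpose_all {x y z : Ω} (hxy : x ≠ y) (hxz : x ≠ z) (hyz : y ≠ z) {h : G}
    (hH : h ∈ H) (hx : h • x = x) (hy : h • y = z) (hz : h • z = y)
    {x' y' z' : Ω} (hxy' : x' ≠ y') (hxz' : x' ≠ z') (hyz' : y' ≠ z') :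
    ∃ h' ∈ H, h' • x' = x' ∧ h' • y' = z' ∧ h' • z' = y' := by
  have h0 : colour H ((Equiv.swap (1 : Fin 3) 2).toEmbedding.trans (tri hxy hxz hyz)) =
      colour H (tri hxy hxz hyz) := by
    refine colour_eq_iff.2 ⟨h, hH, fun i => ?_⟩
    fin_cases i
    · exact hx
    · exact hy
    · exact hz
  obtain ⟨h', hH', hh'⟩ := colour_eq_iff.1
    (hS.perm_all (Equiv.swap (1 : Fin 3) 2) _ h0 (tri hxy' hxz' hyz'))
  exact ⟨h', hH', hh' 0, hh' 1, hh' 2⟩

omit h2 in
/-- One colour means triply transitive. -/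
theorem three_of_col_le_one (h1 : Nat.card (Col H Ω) ≤ 1) : IsMultiplyPretransitive H Ω 3 := by
  haveI : Subsingleton (Col H Ω) := Finite.card_le_one_iff_subsingleton.1 h1
  refine ⟨fun T T' => ?_⟩
  obtain ⟨h, hH, hh⟩ := colour_eq_iff.1 (Subsingleton.elim (colour H T') (colour H T))
  exact ⟨⟨h, hH⟩, Function.Embedding.ext hh⟩

omit hS h2 in
theorem col_le_one_of_three (h : IsMultiplyPretransitive H Ω 3) : Nat.card (Col H Ω) ≤ 1 := by
  haveI : Subsingleton (Col H Ω) := ⟨fun q q' => by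
    obtain ⟨T, rfl⟩ := colour_surjective H q
    obtain ⟨T', rfl⟩ := colour_surjective H q'
    haveI := h
    obtain ⟨g, hg⟩ := MulAction.exists_smul_eq ↥H T' T
    exact colour_eq_iff.2 ⟨g, g.2, fun i => congrArg (fun S : Fin 3 ↪ Ω => S i) hg⟩⟩
  exact Finite.card_le_one_iff_subsingleton.2 inferInstance

omit hS h2 in
theorem col_le_of_le {K H : Subgroup G} (hle : K ≤ H) :
    Nat.card (Col H Ω) ≤ Nat.card (Col K Ω) := by
  let f : Col K Ω → Col H Ω := Quotient.map' id (by
    rintro T T' ⟨h, hh⟩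
    exact ⟨⟨h, hle h.2⟩, hh⟩)
  exact Nat.card_le_card_of_surjective f fun q => by
    obtain ⟨T, rfl⟩ := colour_surjective H q
    exact ⟨colour K T, rfl⟩

end Cfsg.Agent.Lib.TriThree76
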