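import Cfsg.Agent.Lib.TriThree76.Affine
import Cfsg.Agent.Lib.Perm.Burnside
import Cfsg.Agent.Lib.Perm.Multiple
import Cfsg.Agent.Lib.Zassenhaus.AbelianCases
import Cfsg.Agent.Lib.Zassenhaus.EvenPSL
import Cfsg.Agent.Lib.Zassenhaus.KernelCases
import Cfsg.Agent.Lib.Linear.Order

/-!
# Minimal normal subgroups of triply transitive groups of degree divisible by three
-/

set_option autoImplicit false
set_option linter.unusedSectionVars false
set_option linter.style.haveILetI false

namespace Cfsg.Agent.Lib.TriThree76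

open MulAction SubMulAction

universe u v

variable {G : Type u} [Group G] [Finite G] {Ω : Type v} [Finite Ω] [MulAction G Ω]
  [FaithfulSMul G Ω] (hS : Setting G Ω)
include hS

theorem Setting.pretransitive : IsPretransitive G Ω :=
  haveI := hS.two_group
  isPretransitive_of_is_two_pretransitive

/-- No regular normal elementary abelian 2-subgroup. -/
theorem Setting.two_trans {H : Subgroup G} [H.Normal] (hH : H ≠ ⊥) :
    IsMultiplyPretransitive H Ω 2 := by
  rcases Perm.Multiple.jordan (k := 3) (by norm_num) hS.big hS.h3 H hH with h | ⟨-, hc, he⟩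
  · exact h
  · exfalso
    haveI := hS.two_group
    haveI := isPreprimitive_of_is_two_pretransitive hS.two_group
    haveI := Perm.Basic.isPretransitive_of_normal_ne_bot (α := Ω) H hH
    obtain ⟨a⟩ : Nonempty Ω := (Nat.card_pos_iff.1 (by have := hS.big; omega)).1
    have hcard := Perm.Basic.card_eq_of_regular (H := H) a
      (Perm.Basic.stabilizer_eq_bot_of_comm_transitive H hc a)
    haveI := Fact.mk Nat.prime_two
    have hP : IsPGroup 2 H := fun x => ⟨1, Subtype.ext (by simpa using he x x.2)⟩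
    obtain ⟨m, hm⟩ := hP.exists_card_eq
    rw [hm] at hcard
    have h3 := hS.three
    rw [← hcard] at h3
    exact absurd (Nat.prime_three.dvd_of_dvd_pow h3) (by norm_num)

/-- In odd degree there is one colour. -/
theorem Setting.col_of_odd {H : Subgroup G} [H.Normal] (hH : H ≠ ⊥) (hodd : Odd (Nat.card Ω)) :
    Nat.card (Col H Ω) ≤ 1 :=
  col_le_one_of_three (Perm.Multiple.three_transitive_of_odd hodd hS.big hS.h3 H (hS.two_trans hH))

/-- A minimal normal subgroup below `H` is simple. -/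
theorem Setting.exists_minimal {H : Subgroup G} [H.Normal] (hH : H ≠ ⊥) :
    ∃ M : Subgroup G, M.Normal ∧ M ≤ H ∧ M ≠ ⊥ ∧ IsSimpleGroup M ∧
      ∀ K : Subgroup G, K.Normal → K ≤ M → K = ⊥ ∨ K = M := by
  classical
  haveI := Fintype.ofFinite (Subgroup G)
  obtain ⟨M, hMm, hMmin⟩ := Finset.exists_min_image
    (Finset.univ.filter fun K : Subgroup G => K.Normal ∧ K ≤ H ∧ K ≠ ⊥) (fun K => Nat.card K)
    ⟨H, Finset.mem_filter.2 ⟨Finset.mem_univ _, inferInstance, le_rfl, hH⟩⟩
  simp only [Finset.mem_filter, Finset.mem_univ, true_and] at hMm hMmin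
  obtain ⟨hMn, hMH, hMne⟩ := hMm
  haveI := hMn
  have hmin : ∀ K : Subgroup G, K.Normal → K ≤ M → K = ⊥ ∨ K = M := fun K hK hKM =>
    or_iff_not_imp_left.2 fun hK0 =>
      Subgroup.eq_of_le_of_card_ge hKM (hMmin K ⟨hK, hKM.trans hMH, hK0⟩)
  rcases Perm.Burnside.minimal_normal hS.two_group M hMne hmin with ⟨-, -, hreg⟩ | ⟨hs, -⟩
  · exfalso
    haveI := hS.two_trans hMne
    obtain ⟨a, b, c, hab, hac, hbc⟩ := hS.exists_points (hS.two_trans hMne)
    obtain ⟨g, ga, gb⟩ := MulAction.is_two_pretransitive_iff.1 (hS.two_trans hMne) hab hac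
    have : g ∈ stabilizer M a := ga
    rw [hreg a, Subgroup.mem_bot] at this
    rw [this, one_smul] at gb
    exact hbc gb
  · exact ⟨M, hMn, hMH, hMne, hs, hmin⟩

omit hS in
/-- The two descriptions of the two-point stabiliser. -/
theorem card_pair_eq (H : Subgroup G) (a b : Ω) :
    Nat.card ↥(stabilizer H a ⊓ stabilizer H b) = Nat.card (pairH H a b) :=
  Nat.card_congr
    { toFun := fun g => ⟨((g : H) : G), mem_pairH.2
        ⟨(g : H).2, (Subgroup.mem_inf.1 g.2).1, (Subgroup.mem_inf.1 g.2).2⟩⟩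
      invFun := fun g => ⟨⟨(g : G), (mem_pairH.1 g.2).1⟩,
        Subgroup.mem_inf.2 ⟨(mem_pairH.1 g.2).2.1, (mem_pairH.1 g.2).2.2⟩⟩
      left_inv := fun g => rfl
      right_inv := fun g => rfl }

/-- The order of a point stabiliser in `H`. -/
theorem Setting.card_stab {H : Subgroup G} [H.Normal] (h2 : IsMultiplyPretransitive H Ω 2)
    {a b : Ω} (hab : a ≠ b) :
    Nat.card ↥(H ⊓ stabilizer G a) + Nat.card (pairH H a b) = Nat.card Ω * Nat.card (pairH H a b) := by
  classical
  haveI := Fintype.ofFinite Ω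
  have hN : pairH H a b = (H ⊓ stabilizer G a) ⊓ stabilizer G b := rfl
  have horb : MulAction.orbit ↥(H ⊓ stabilizer G a) b = ({a}ᶜ : Set Ω) := by
    ext c
    simp only [Set.mem_compl_iff, Set.mem_singleton_iff]
    constructor
    · rintro ⟨⟨g, hg⟩, rfl⟩ h
      exact hab.symm (smul_left_cancel g (h.trans (mem_stabilizer_iff.1 (Subgroup.mem_inf.1 hg).2).symm))
    · intro hc
      obtain ⟨⟨g, hgH⟩, ga, gb⟩ := MulAction.is_two_pretransitive_iff.1 h2 hab (Ne.symm hc)
      exact ⟨⟨g, Subgroup.mem_inf.2 ⟨hgH, ga⟩⟩, gb⟩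
  have h1 := Nat.card_congr (orbitProdStabilizerEquivGroup ↥(H ⊓ stabilizer G a) b)
  have h3 : Nat.card (stabilizer ↥(H ⊓ stabilizer G a) b) = Nat.card (pairH H a b) := Nat.card_congr
    { toFun := fun g => ⟨((g : ↥(H ⊓ stabilizer G a)) : G),
        Subgroup.mem_inf.2 ⟨(g : ↥(H ⊓ stabilizer G a)).2, g.2⟩⟩
      invFun := fun g => ⟨⟨(g : G), (Subgroup.mem_inf.1 g.2).1⟩, (Subgroup.mem_inf.1 g.2).2⟩
      left_inv := fun g => rfl
      right_inv := fun g => rfl }
  rw [Nat.card_prod, horb, h3, Nat.card_coe_set_eq, Set.ncard_compl, Set.ncard_singleton] at h1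
  have hpos : 1 ≤ Nat.card Ω := by have := hS.big; omega
  rw [← h1, Nat.sub_one_mul, Nat.sub_add_cancel]
  exact Nat.le_mul_of_pos_left _ hpos

/-- The main step: a simple `M` with at least two colours is `PSL₂(n - 1)` with two colours. -/
theorem Setting.core {M : Subgroup G} [M.Normal] (hMne : M ≠ ⊥) (hsimple : IsSimpleGroup M)
    (hmin : ∀ K : Subgroup G, K.Normal → K ≤ M → K = ⊥ ∨ K = M)
    (heven : Even (Nat.card Ω)) (hk : 2 ≤ Nat.card (Col M Ω)) {a b : Ω} (hab : a ≠ b)
    (hloc : ¬ 3 ∣ Nat.card (pairH M a b) ∨ Odd (Nat.card ↥(M ⊓ stabilizer G a))) :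
    Nat.card (Col M Ω) ≤ 2 ∧ ∃ (F : Type) (_ : Field F) (_ : Fintype F),
      Fintype.card F + 1 = Nat.card Ω ∧
        Nonempty (M ≃* Matrix.ProjectiveSpecialLinearGroup (Fin 2) F) := by
  classical
  haveI := Fintype.ofFinite Ω
  have h2 := hS.two_trans hMne
  haveI := h2
  haveI hGt := hS.pretransitive
  haveI hMt : IsPretransitive M Ω := isPretransitive_of_is_two_pretransitive
  have hcs := hS.card_stab h2 hab
  -- the action of the point stabiliser on the other points
  set S := stabilizer G a with hSdef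
  set Y := ofStabilizer G a with hY
  have hY2 : IsMultiplyPretransitive S Y 2 := by
    have := hS.h3
    rwa [ofStabilizer.isMultiplyPretransitive (a := a)] at this
  haveI := hY2
  set Ma := M.subgroupOf S with hMa
  haveI : Ma.Normal := inferInstance
  have hcardY : Nat.card Y + 1 = Nat.card Ω := by
    rw [nat_card_ofStabilizer_eq]
    have := hS.big
    omega
  haveI : Nontrivial Y := by
    rw [← Finite.one_lt_card_iff_nontrivial]
    have := hS.big
    omega
  have hMa_ne : Ma ≠ ⊥ := by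
    intro h
    obtain ⟨x, c, d, hxc, hxd, hcd⟩ := hS.exists_points h2
    obtain ⟨g, ga, gb⟩ := MulAction.is_two_pretransitive_iff.1 h2 hxc hxd
    obtain ⟨h', ha'⟩ := MulAction.exists_smul_eq M x a
    have hmem : (h' * g * h'⁻¹ : M) • a = a := by
      rw [← ha', mul_smul, mul_smul, inv_smul_smul, ga]
    have : (⟨((h' * g * h'⁻¹ : M) : G), hmem⟩ : S) ∈ Ma := (h' * g * h'⁻¹ : M).2
    rw [h, Subgroup.mem_bot] at this
    have e : (h' * g * h'⁻¹ : M) = 1 :=
      Subtype.ext (show ((h' * g * h'⁻¹ : M) : G) = 1 from congrArg Subtype.val this)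
    rw [conj_eq_one_iff] at e
    rw [e, one_smul] at gb
    exact hcd gb
  haveI := Fintype.ofFinite (Subgroup S)
  obtain ⟨N, hNm, hNmin⟩ := Finset.exists_min_image
    (Finset.univ.filter fun K : Subgroup S => K.Normal ∧ K ≤ Ma ∧ K ≠ ⊥) (fun K => Nat.card K)
    ⟨Ma, Finset.mem_filter.2 ⟨Finset.mem_univ _, inferInstance, le_rfl, hMa_ne⟩⟩
  simp only [Finset.mem_filter, Finset.mem_univ, true_and] at hNm hNmin
  obtain ⟨hNn, hNMa, hNne⟩ := hNm
  haveI := hNn
  have hNmin' : ∀ K : Subgroup S, K.Normal → K ≤ N → K = ⊥ ∨ K = N := fun K hK hKN =>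
    or_iff_not_imp_left.2 fun hK0 =>
      Subgroup.eq_of_le_of_card_ge hKN (hNmin K ⟨hK, hKN.trans hNMa, hK0⟩)
  haveI := isPreprimitive_of_is_two_pretransitive hY2
  haveI hNt : IsPretransitive N Y := Perm.Basic.isPretransitive_of_normal_ne_bot (α := Y) N hNne
  have hcardN : Nat.card N ∣ Nat.card ↥(M ⊓ S) := by
    refine (Subgroup.card_dvd_of_le hNMa).trans (dvd_of_eq ?_)
    rw [← Subgroup.card_map_of_injective S.subtype_injective, hMa, Subgroup.subgroupOf_map_subtype]
  -- the socle is regular and elementary abelian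
  have haff : IsMulCommutative N ∧ (∃ p : ℕ, p.Prime ∧ ∀ x ∈ N, x ^ p = 1) ∧
      ∀ y : Y, stabilizer N y = ⊥ := by
    rcases Perm.Burnside.minimal_normal hY2 N hNne hNmin' with h | ⟨hNs, hNp⟩
    · exact h
    haveI := hNs
    by_cases hc : ∀ x y : N, x * y = y * x
    · have hcomm : IsMulCommutative N := ⟨⟨hc⟩⟩
      refine ⟨hcomm, ?_, Perm.Basic.stabilizer_eq_bot_of_comm_transitive N hcomm⟩
      letI : CommGroup N := { (inferInstance : Group N) with mul_comm := hc }
      have hprime := IsSimpleGroup.prime_card (α := N)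
      exact ⟨Nat.card N, hprime, fun x hx =>
        congrArg Subtype.val (pow_card_eq_one' (x := (⟨x, hx⟩ : N)))⟩
    exfalso
    push Not at hc
    rcases hloc with h3 | hodd
    · have h3N : ¬ 3 ∣ Nat.card N := fun h => by
        have h' := h.trans hcardN
        obtain ⟨i, hi⟩ := hS.three
        obtain ⟨j, hj⟩ := h'
        apply h3
        rw [hi, hj, mul_assoc] at hcs
        exact ⟨i * Nat.card (pairH M a b) - j, by omega⟩
      have hSz := Thompson3Prime33.threePrimeSimple N hNs hc h3N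
      have hoddY : Odd (Nat.card Y) := by
        obtain ⟨i, hi⟩ := heven
        exact ⟨i - 1, by have := hS.big; omega⟩
      have hN2 := two_transitive_of_isoSuzuki hSz hNp hoddY
      have hMa2 : IsMultiplyPretransitive Ma Y 2 := by
        rw [MulAction.is_two_pretransitive_iff]
        intro x y x' y' hxy hxy'
        obtain ⟨g, g1, g2⟩ := MulAction.is_two_pretransitive_iff.1 hN2 hxy hxy'
        exact ⟨⟨(g : S), hNMa g.2⟩, g1, g2⟩
      have h3' := Perm.Multiple.succ_of_stabilizer M a hMa2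
      have := col_le_one_of_three (H := M) h3'
      omega
    · have : Odd (Nat.card N) := hodd.of_dvd_nat hcardN
      haveI := OddOrder.FeitThompson.isSolvable_of_odd_card this
      obtain ⟨x, y, hxy⟩ := hc
      exact hxy (IsSimpleGroup.comm_iff_isSolvable.2 inferInstance x y)
  obtain ⟨hNc, ⟨p, hp, hexp⟩, hreg⟩ := haff
  -- the regular subgroup in `G`
  set Q := N.map S.subtype with hQdef
  have hQ : Q ≤ M ⊓ S := by
    rintro _ ⟨x, hx, rfl⟩
    exact Subgroup.mem_inf.2 ⟨hNMa hx, x.2⟩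
  have hQn : ∀ g ∈ S, ∀ q ∈ Q, g * q * g⁻¹ ∈ Q := by
    rintro g hg _ ⟨x, hx, rfl⟩
    exact ⟨_, hNn.conj_mem x hx ⟨g, hg⟩, rfl⟩
  have hQc : ∀ x ∈ Q, ∀ y ∈ Q, x * y = y * x := by
    rintro _ ⟨x, hx, rfl⟩ _ ⟨y, hy, rfl⟩
    exact congrArg (fun z : N => ((z : S) : G)) (hNc.is_comm.comm (⟨x, hx⟩ : N) ⟨y, hy⟩)
  have hQp : ∃ p : ℕ, p.Prime ∧ ∀ x ∈ Q, x ^ p = 1 := by
    refine ⟨p, hp, ?_⟩
    rintro _ ⟨x, hx, rfl⟩
    rw [← map_pow, hexp x hx, map_one]
  have hQfree : ∀ q ∈ Q, ∀ c, c ≠ a → q • c = c → q = 1 := by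
    rintro _ ⟨x, hx, rfl⟩ c hc hfix
    have h : (⟨x, hx⟩ : N) ∈ stabilizer N (⟨c, hc⟩ : Y) := Subtype.ext hfix
    rw [hreg, Subgroup.mem_bot] at h
    rw [show x = 1 from congrArg Subtype.val h, map_one]
  have hQtr : ∀ c d, c ≠ a → d ≠ a → ∃ q ∈ Q, q • c = d := by
    intro c d hc hd
    obtain ⟨g, hg⟩ := MulAction.exists_smul_eq N (⟨c, hc⟩ : Y) ⟨d, hd⟩
    exact ⟨_, ⟨(g : S), g.2, rfl⟩, congrArg Subtype.val hg⟩
  have hloc' : ¬ 3 ∣ Nat.card (pairH M a b) ∨ Odd (Nat.card (pairH M a b)) :=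
    hloc.imp_right fun h => h.of_dvd_nat (Subgroup.card_dvd_of_le inf_le_left)
  have hsemi : ∀ e ∈ pairH M a b, ∀ c, c ≠ a → c ≠ b → e • c = c → e = 1 := fun e he c hca hcb hec =>
    hS.affine h2 hsimple heven hab hloc' Q hQ hQn hQc hQp hQfree hQtr he hca hcb hec
  -- a Zassenhaus group
  have hfree : ∀ g : M, ∀ x y z : Ω, x ≠ y → y ≠ z → x ≠ z → g • x = x → g • y = y → g • z = z →
      g = 1 := by
    intro g x y z hxy hyz hxz gx gy gz
    obtain ⟨h, hx, hy⟩ := MulAction.is_two_pretransitive_iff.1 h2 hxy hab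
    have hmem : ((h * g * h⁻¹ : M) : G) ∈ pairH M a b := mem_pairH.2
      ⟨(h * g * h⁻¹ : M).2,
        show (h * g * h⁻¹ : M) • a = a by rw [← hx, mul_smul, mul_smul, inv_smul_smul, gx],
        show (h * g * h⁻¹ : M) • b = b by rw [← hy, mul_smul, mul_smul, inv_smul_smul, gy]⟩
    have := hsemi _ hmem (h • z) (by rw [← hx]; exact fun e => hxz (smul_left_cancel h e).symm)
      (by rw [← hy]; exact fun e => hyz (smul_left_cancel h e).symm)
      (show (h * g * h⁻¹ : M) • h • z = h • z by rw [mul_smul, mul_smul, inv_smul_smul, gz])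
    have e : (h * g * h⁻¹ : M) = 1 := Subtype.ext this
    exact conj_eq_one_iff.1 e
  have hstab : ∀ x : Ω, stabilizer M x ≠ ⊥ := by
    intro x hx
    obtain ⟨y, c, d, hyc, hyd, hcd⟩ := hS.exists_points h2
    obtain ⟨g, ga, gb⟩ := MulAction.is_two_pretransitive_iff.1 h2 hyc hyd
    obtain ⟨h', ha'⟩ := MulAction.exists_smul_eq M y x
    have hmem : (h' * g * h'⁻¹ : M) ∈ stabilizer M x := by
      rw [mem_stabilizer_iff, ← ha', mul_smul, mul_smul, inv_smul_smul, ga]
    rw [hx, Subgroup.mem_bot, conj_eq_one_iff] at hmem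
    rw [hmem, one_smul] at gb
    exact hcd gb
  haveI : FaithfulSMul M Ω := ⟨fun h => Subtype.ext (eq_of_smul_eq_smul (α := Ω) h)⟩
  have hZ : Cfsg.IsZassenhausGroup M Ω := by
    refine ⟨inferInstance, h2, hfree, ?_, ?_⟩
    · by_contra hno
      push Not at hno
      refine hstab a (Perm.Burnside.regular_of_frobenius M hmin (fun g x y hxy gx gy => ?_) a
        (by have := hS.big; omega))
      by_contra hg
      exact hno g hg x y hxy gx gy
    · intro K hK hKt
      rcases (hsimple.eq_bot_or_eq_top_of_normal K hK) with rfl | rfl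
      · exfalso
        obtain ⟨g, hg⟩ := hKt.exists_smul_eq a b
        rw [show g = 1 from Subtype.ext (Subgroup.mem_bot.1 g.2), one_smul] at hg
        exact hab hg
      · refine ⟨a, fun h => hstab a ?_⟩
        rw [eq_bot_iff]
        intro g hg
        have : (⟨g, Subgroup.mem_top g⟩ : (⊤ : Subgroup M)) ∈ stabilizer (⊤ : Subgroup M) a := hg
        rw [h, Subgroup.mem_bot] at this
        exact Subgroup.mem_bot.2 (congrArg Subtype.val this)
  -- the number of colours
  obtain ⟨c, hc⟩ : ∃ c, c ∉ ({a, b} : Finset Ω) := by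
    by_contra! h
    have h1 : (Finset.univ : Finset Ω).card ≤ ({a, b} : Finset Ω).card :=
      Finset.card_le_card fun x _ => h x
    rw [Finset.card_univ, Finset.card_pair hab, ← Nat.card_eq_fintype_card] at h1
    have := hS.big
    omega
  simp only [Finset.mem_insert, Finset.mem_singleton, not_or] at hc
  obtain ⟨hca, hcb⟩ : c ≠ a ∧ c ≠ b := hc
  have hkm := hS.card_col_mul h2 hab hca.symm hcb.symm
  have hm : Nat.card (MulAction.orbit (pairH M a b) c) = Nat.card (pairH M a b) := by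
    haveI : Subsingleton (stabilizer (pairH M a b) c) := ⟨fun g g' => by
      have h1 : ∀ g : stabilizer (pairH M a b) c, g = 1 := fun g =>
        Subtype.ext (Subtype.ext (hsemi _ g.1.2 c hca hcb g.2))
      rw [h1 g, h1 g']⟩
    have h1 := Nat.card_congr (orbitProdStabilizerEquivGroup (pairH M a b) c)
    have h0 : Nat.card (stabilizer (pairH M a b) c) = 1 :=
      Nat.card_eq_one_iff_unique.2 ⟨inferInstance, ⟨1⟩⟩
    rwa [Nat.card_prod, h0, mul_one] at h1
  rw [hm, ← card_pair_eq M a b] at hkm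
  set k := Nat.card (Col M Ω) with hkdef
  set d := Nat.card ↥(stabilizer M a ⊓ stabilizer M b) with hd
  have h2d : 2 * d + 2 ≤ Nat.card Ω := by
    have := Nat.mul_le_mul_right d hk
    omega
  have hdpos : 0 < d := Nat.card_pos
  rcases Nat.even_or_odd d with hde | hdo
  · obtain ⟨hge, -⟩ := Zassenhaus.card_le_and_inverted hZ hab hde
    refine ⟨?_, ?_⟩
    · have hkd : k * d ≤ 2 * d := by rw [← hd] at hge; omega
      exact Nat.le_of_mul_le_mul_right hkd hdpos
    · obtain ⟨F, fF, ffF, -, hcard, hiso⟩ :=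
        Zassenhaus.iso_psl_of_even hZ hab hde (by rw [← hd]; omega)
      exact ⟨F, fF, ffF, hcard, hiso⟩
  · obtain ⟨U, hU⟩ := Zassenhaus.exists_regKernel hZ hab
    obtain ⟨hcard, hcyc, hinv⟩ := Zassenhaus.even_degree hZ hab hU heven hdo
    have hUc := Zassenhaus.RegKernel.card_add_one hab hU
    have hA := Zassenhaus.RegKernel.toAbKernel hZ hab hU
      (Zassenhaus.comm_of_card hZ hab hU hdo (by omega))
    obtain ⟨F, fF, ffF, hF2, ⟨e⟩⟩ := Zassenhaus.iso_psl_of_odd hZ hab hA hdo hcard hcyc hinv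
    refine ⟨?_, F, fF, ffF, ?_, ⟨e⟩⟩
    · have hkd : k * d ≤ 2 * d := by rw [← hd] at hcard; omega
      exact Nat.le_of_mul_le_mul_right hkd hdpos
    · have hFodd : Odd (Fintype.card F) := by
        rw [Nat.odd_iff]
        exact FiniteField.odd_card_of_char_ne_two hF2
      have h1 := Linear.two_mul_card_PSL_two_of_odd (F := F) hFodd
      have h3 := Zassenhaus.RegKernel.card_group hZ hab hU
      rw [← Nat.card_congr e.toEquiv, h3] at h1
      set q := Fintype.card F with hq
      set n := Nat.card Ω with hn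
      have hU' : Nat.card U = 2 * d + 1 := by omega
      rw [hU', ← hd] at h1
      have hn' : n = 2 * d + 2 := hcard.symm
      rw [hn'] at h1
      have hq1 : 1 < q := Fintype.one_lt_card
      have hmono : ∀ x y : ℕ, 1 ≤ x → x < y → x * (x - 1) * (x + 1) < y * (y - 1) * (y + 1) := by
        intro x y hx hxy
        exact Nat.mul_lt_mul_of_lt_of_le
          (Nat.mul_lt_mul_of_lt_of_le hxy (by omega) (by omega)) (by omega) (by omega)
      have hval : q * (q - 1) * (q + 1) = (2 * d + 1) * (2 * d + 1 - 1) * (2 * d + 1 + 1) := by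
        rw [← h1, show 2 * d + 1 - 1 = 2 * d by omega]
        ring
      rcases lt_trichotomy q (2 * d + 1) with h | h | h
      · exact absurd hval (hmono q _ (by omega) h).ne
      · omega
      · exact absurd hval (hmono _ q (by omega) h).ne'

/-- With two colours and degree divisible by four a point stabiliser of `M` has odd order. -/
theorem Setting.odd_stab {M : Subgroup G} [M.Normal] (hMne : M ≠ ⊥)
    (hk : Nat.card (Col M Ω) = 2) (h4 : Nat.card Ω % 4 = 0) (a : Ω) :
    Odd (Nat.card ↥(M ⊓ stabilizer G a)) := by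
  classical
  haveI := Fintype.ofFinite Ω
  have h2 := hS.two_trans hMne
  haveI := h2
  -- no transpositions
  have hnot : ∀ x y z : Ω, x ≠ y → x ≠ z → y ≠ z →
      ¬ ∃ h ∈ M, h • x = x ∧ h • y = z ∧ h • z = y := by
    rintro x y z hxy hxz hyz ⟨h, hM, hx, hy, hz⟩
    obtain ⟨q0⟩ : Nonempty (Col M Ω) := (Nat.card_pos_iff.1 (by omega)).1
    obtain ⟨T, rfl⟩ := colour_surjective M q0
    let Γ : SimpleGraph {c : Ω // c ≠ a} :=
      { Adj := fun c d => ∃ hcd : (c : Ω) ≠ d, colour M (tri (Ne.symm c.2) (Ne.symm d.2) hcd) = colour M T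
        symm := ⟨fun c d hh => by
          obtain ⟨hcd, he⟩ := hh
          refine ⟨hcd.symm, ?_⟩
          rw [← he]
          obtain ⟨h', hM', h1, h2', h3⟩ := hS.transpose_all hxy hxz hyz hM hx hy hz
            (Ne.symm c.2) (Ne.symm d.2) hcd
          exact colour_eq_iff.2 ⟨h', hM', fun i => by fin_cases i <;> [exact h1; exact h2'; exact h3]⟩⟩
        loopless := ⟨fun c ⟨hcc, _⟩ => hcc rfl⟩ }
    have hdeg : ∀ c, 2 * Γ.degree c + 2 = Nat.card Ω := by
      intro c
      obtain ⟨d, hac, hcd, hT⟩ := hS.exists_rep h2 (Ne.symm c.2) T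
      have hkm := hS.card_col_mul h2 (Ne.symm c.2) hac hcd
      rw [hk] at hkm
      rw [← hkm]
      congr 2
      rw [← SimpleGraph.card_neighborSet_eq_degree, ← Nat.card_eq_fintype_card]
      refine Nat.card_congr
        { toFun := fun e => ⟨((e : {c : Ω // c ≠ a}) : Ω), ?_⟩
          invFun := fun e => ⟨⟨(e : Ω), ?_⟩, ?_⟩
          left_inv := fun e => rfl
          right_inv := fun e => rfl }
      · obtain ⟨hne, he⟩ := e.2
        exact (colour_rep_eq _ _ _ hac hcd).1 (he.trans hT.symm)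
      · obtain ⟨⟨g, hg⟩, hge⟩ := e.2
        intro hea
        apply hac
        have h1 : g • d = g • a := by rw [(mem_pairH.1 hg).2.1]; exact hge.trans hea
        exact (smul_left_cancel g h1).symm
      · have hce : (c : Ω) ≠ (e : Ω) := by
          obtain ⟨⟨g, hg⟩, hge⟩ := e.2
          intro hce
          apply hcd
          have h1 : g • d = g • (c : Ω) := by rw [(mem_pairH.1 hg).2.2]; exact hge.trans hce.symm
          exact (smul_left_cancel g h1).symm
        exact ⟨hce, ((colour_rep_eq _ _ hce hac hcd).2 e.2).trans hT⟩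
    have hcnt := Γ.sum_degrees_eq_twice_card_edges
    have hsum : ∀ v, Γ.degree v = (Nat.card Ω - 2) / 2 := fun v => by have := hdeg v; omega
    rw [Finset.sum_congr rfl (fun v _ => hsum v), Finset.sum_const, smul_eq_mul, Finset.card_univ] at hcnt
    have hcardc : Fintype.card {c : Ω // c ≠ a} = Nat.card Ω - 1 := by
      rw [Fintype.card_subtype_compl, Fintype.card_subtype_eq, Nat.card_eq_fintype_card]
    have hodd : Odd ((Nat.card Ω - 1) * ((Nat.card Ω - 2) / 2)) := by
      refine Odd.mul ?_ ?_ <;> rw [Nat.odd_iff] <;> have := hS.big <;> omega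
    rw [← hcardc, hcnt] at hodd
    exact Nat.not_odd_iff_even.2 (even_two_mul _) hodd
  rw [Nat.odd_iff, ← Nat.two_dvd_ne_zero]
  intro htwo
  haveI := Fact.mk Nat.prime_two
  obtain ⟨⟨w, hw⟩, hord⟩ := exists_prime_orderOf_dvd_card' 2 htwo
  rw [Subgroup.orderOf_mk] at hord
  obtain ⟨hwM, hwa⟩ := Subgroup.mem_inf.1 hw
  obtain ⟨y, hy⟩ : ∃ y : Ω, w • y ≠ y := by
    by_contra! h
    have : w = 1 := eq_of_smul_eq_smul fun y : Ω => by rw [h, one_smul]
    rw [this, orderOf_one] at hord
    omega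
  have hww : w * w = 1 := by rw [← pow_two, ← hord, pow_orderOf_eq_one]
  have hya : a ≠ y := fun h => hy (h ▸ hwa)
  have hwya : a ≠ w • y := fun h => hya (smul_left_cancel w ((mem_stabilizer_iff.1 hwa).trans h))
  exact hnot a y (w • y) hya hwya (Ne.symm hy)
    ⟨w, hwM, hwa, rfl, by rw [← mul_smul, hww, one_smul]⟩

end Cfsg.Agent.Lib.TriThree76
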