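import Mathlib

/-!
# Commutative rings of endomorphisms without kernel

`End V` of a finite elementary abelian `p`-group `V` of odd dimension: a commutative subring all of
whose non-zero elements are injective is a field of order `p ^ e` with `e` odd, so it has no
automorphism of order two.
-/

set_option autoImplicit false
set_option linter.unusedSectionVars false
set_option linter.style.haveILetI false

namespace Cfsg.Agent.Lib.TriThree76

variable {D V : Type*} [Group D] [AddCommGroup V] [DistribMulAction D V]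

/-- The endomorphism of a group element. -/
abbrev toEnd (d : D) : AddMonoid.End V := DistribMulAction.toAddMonoidEnd D V d

theorem toEnd_apply (d : D) (v : V) : (toEnd d : AddMonoid.End V) v = d • v := rfl

theorem end_mul_apply (a b : AddMonoid.End V) (v : V) : (a * b) v = a (b v) := rfl

theorem end_ext {a b : AddMonoid.End V} (h : ∀ v, a v = b v) : a = b := AddMonoidHom.ext h

/-- All non-zero elements are injective. -/
def NoKer (A : Subring (AddMonoid.End V)) : Prop :=
  ∀ a ∈ A, ∀ v : V, v ≠ 0 → a v = 0 → a = 0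

/-- A subring mapped into itself by a group transitive on non-zero vectors has no kernel. -/
theorem noKer_of_transitive [Finite V] (A : Subring (AddMonoid.End V))
    (hc : ∀ x ∈ A, ∀ y ∈ A, x * y = y * x)
    (htr : ∀ v w : V, v ≠ 0 → w ≠ 0 → ∃ d : D, d • v = w)
    (hn : ∀ d : D, ∀ a ∈ A, ∃ a' ∈ A, ∀ v : V, a (d • v) = d • a' v) : NoKer A := by
  classical
  let O : V → Set V := fun v => {u | ∃ a ∈ A, a v = u}
  have hsub : ∀ a ∈ A, ∀ v, O (a v) ⊆ O v := by
    rintro a ha v _ ⟨b, hb, rfl⟩
    exact ⟨b * a, A.mul_mem hb ha, rfl⟩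
  have hle : ∀ (d : D) (v : V), (O (d • v)).ncard ≤ (O v).ncard := by
    intro d v
    refine (Set.ncard_le_ncard (t := (fun u => d • u) '' O v) ?_ (Set.toFinite _)).trans
      (Set.ncard_image_le (Set.toFinite _))
    rintro _ ⟨a, ha, rfl⟩
    obtain ⟨a', ha', h⟩ := hn d a ha
    exact ⟨a' v, ⟨a', ha', rfl⟩, (h v).symm⟩
  have hcard : ∀ v w : V, v ≠ 0 → w ≠ 0 → (O v).ncard ≤ (O w).ncard := by
    intro v w hv hw
    obtain ⟨d, rfl⟩ := htr w v hw hv
    exact hle d w
  intro a ha v hv hav
  by_contra ha0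
  obtain ⟨w, hw⟩ : ∃ w, a w ≠ 0 := by
    by_contra! h
    exact ha0 (AddMonoidHom.ext h)
  have hw0 : w ≠ 0 := fun e => hw (by rw [e, map_zero])
  have hu : a (v + w) = a w := by rw [map_add, hav, zero_add]
  have hu0 : v + w ≠ 0 := fun e => hw (by rw [← hu, e, map_zero])
  have e1 : O (a w) = O w :=
    Set.eq_of_subset_of_ncard_le (hsub a ha w) (hcard _ _ hw0 hw) (Set.toFinite _)
  have e2 : O (a w) = O (v + w) := by
    refine Set.eq_of_subset_of_ncard_le ?_ (hcard _ _ hu0 hw) (Set.toFinite _)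
    rw [← hu]
    exact hsub a ha _
  obtain ⟨c, hc', hcw⟩ : v + w ∈ O w := by
    rw [← e1, e2]
    exact ⟨1, A.one_mem, rfl⟩
  obtain ⟨e, he, hew⟩ : w ∈ O (a w) := by rw [e1]; exact ⟨1, A.one_mem, rfl⟩
  have hb : (c - 1) w = v := by
    show c w - w = v
    rw [hcw, add_sub_cancel_right]
  have hbA : c - 1 ∈ A := A.sub_mem hc' A.one_mem
  apply hv
  calc v = ((c - 1) * (e * a)) w := by
        rw [end_mul_apply, end_mul_apply, hew, hb]
    _ = ((e * a) * (c - 1)) w := by rw [hc _ hbA _ (A.mul_mem he ha)]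
    _ = 0 := by rw [end_mul_apply, end_mul_apply, hb, hav, map_zero]

variable [Finite V] {p f : ℕ}

/-- The order of a ring without kernel divides evenly: `|V|` is a power of it. -/
theorem exists_card_pow (hV : Nontrivial V) (A : Subring (AddMonoid.End V))
    (hc : ∀ x ∈ A, ∀ y ∈ A, x * y = y * x) (hk : NoKer A) :
    ∃ d : ℕ, Nat.card V = Nat.card A ^ d := by
  classical
  letI : CommRing A :=
    { (inferInstance : Ring A) with mul_comm := fun x y => Subtype.ext (hc x x.2 y y.2) }
  haveI : Finite (AddMonoid.End V) := Finite.of_injective _ DFunLike.coe_injective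
  haveI : Nontrivial A := ⟨0, 1, fun h => by
    obtain ⟨u, hu⟩ := exists_ne (0 : V)
    exact hu (congrArg (fun l : A => (l : AddMonoid.End V) u) h).symm⟩
  haveI : NoZeroDivisors A := ⟨fun {x y} h => by
    by_contra! hne
    refine hne.2 (Subtype.ext (end_ext fun v => ?_))
    by_contra hv
    exact hne.1 (Subtype.ext (hk x x.2 _ hv (congrArg (fun l : A => (l : AddMonoid.End V) v) h)))⟩
  haveI : IsDomain A := NoZeroDivisors.to_isDomain A
  letI : Field A := (Finite.isField_of_domain A).toField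
  letI : Module A V := Module.compHom V A.subtype
  exact ⟨Module.finrank A V, Module.natCard_eq_pow_finrank (K := A) (V := V)⟩

/-- A finite subgroup of the units of a ring without kernel is cyclic. -/
theorem isCyclic_of_noKer (hV : Nontrivial V) {N : Subgroup D} [Finite N]
    (hinj : ∀ g ∈ N, (∀ v : V, g • v = v) → g = 1) (A : Subring (AddMonoid.End V))
    (hc : ∀ x ∈ A, ∀ y ∈ A, x * y = y * x) (hk : NoKer A) (hN : ∀ g ∈ N, toEnd g ∈ A) :
    IsCyclic N := by
  letI : CommRing A :=
    { (inferInstance : Ring A) with mul_comm := fun x y => Subtype.ext (hc x x.2 y y.2) }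
  haveI : Nontrivial A := ⟨0, 1, fun h => by
    obtain ⟨u, hu⟩ := exists_ne (0 : V)
    exact hu (congrArg (fun l : A => (l : AddMonoid.End V) u) h).symm⟩
  haveI : NoZeroDivisors A := ⟨fun {x y} h => by
    by_contra! hne
    refine hne.2 (Subtype.ext (end_ext fun v => ?_))
    by_contra hv
    exact hne.1 (Subtype.ext (hk x x.2 _ hv (congrArg (fun l : A => (l : AddMonoid.End V) v) h)))⟩
  haveI : IsDomain A := NoZeroDivisors.to_isDomain A
  refine isCyclic_of_subgroup_isDomain (R := A) (G := N)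
    { toFun := fun g => ⟨toEnd (g : D), hN g g.2⟩
      map_one' := Subtype.ext (end_ext fun v => one_smul D v)
      map_mul' := fun g h => Subtype.ext (end_ext fun v => mul_smul (g : D) (h : D) v) } fun g h e => ?_
  have e' : ∀ v : V, (g : D) • v = (h : D) • v := fun v =>
    congrArg (fun l : A => (l : AddMonoid.End V) v) e
  have := hinj ((h : D)⁻¹ * g) (N.mul_mem (N.inv_mem h.2) g.2) fun v => by
    rw [mul_smul, e', inv_smul_smul]
  exact Subtype.ext (inv_mul_eq_one.1 this).symm

/-- In odd dimension no element induces an automorphism of order two. -/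
theorem commute_of_sq (hp : p.Prime) (hp2 : p ≠ 2) (hcard : Nat.card V = p ^ f) (hf : Odd f)
    (A : Subring (AddMonoid.End V)) (hc : ∀ x ∈ A, ∀ y ∈ A, x * y = y * x) (hk : NoKer A)
    (g : D) (hg : ∀ a ∈ A, toEnd g * a * toEnd g⁻¹ ∈ A)
    (hgg : ∀ a ∈ A, toEnd (g * g) * a = a * toEnd (g * g)) :
    ∀ a ∈ A, ∀ v : V, g • a v = a (g • v) := by
  classical
  have hV : Nontrivial V := by
    rw [← Finite.one_lt_card_iff_nontrivial, hcard]
    exact Nat.one_lt_pow hf.pos.ne' hp.one_lt
  haveI : Finite (AddMonoid.End V) := Finite.of_injective _ DFunLike.coe_injective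
  have hpV : Fact p.Prime := ⟨hp⟩
  -- multiplication by two is injective
  have h2 : ∀ v : V, v + v = 0 → v = 0 := by
    intro v hv
    by_contra hv0
    have h1 : addOrderOf v = 2 := addOrderOf_eq_prime (by rw [two_nsmul]; exact hv) hv0
    have h3 := addOrderOf_dvd_natCard v
    rw [h1, hcard] at h3
    exact hp2 ((Nat.prime_dvd_prime_iff_eq Nat.prime_two hp).1 (Nat.prime_two.dvd_of_dvd_pow h3)).symm
  let σ : A →+ A :=
    AddMonoidHom.mk' (fun a => ⟨toEnd g * (a : AddMonoid.End V) * toEnd g⁻¹, hg a a.2⟩)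
      fun a b => Subtype.ext (end_ext fun v => smul_add g ((a : AddMonoid.End V) (g⁻¹ • v)) ((b : AddMonoid.End V) (g⁻¹ • v)))
  have hσap : ∀ (a : A) (v : V), ((σ a : A) : AddMonoid.End V) v =
      g • (a : AddMonoid.End V) (g⁻¹ • v) := fun a v => rfl
  have hσσ : ∀ a, σ (σ a) = a := by
    intro a
    refine Subtype.ext (end_ext fun v => ?_)
    rw [hσap, hσap]
    have := congrArg (fun l : AddMonoid.End V => l (g⁻¹ • g⁻¹ • v)) (hgg a a.2)
    change (g * g) • (a : AddMonoid.End V) (g⁻¹ • g⁻¹ • v) =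
      (a : AddMonoid.End V) ((g * g) • g⁻¹ • g⁻¹ • v) at this
    rw [mul_smul, mul_smul, smul_inv_smul, smul_inv_smul] at this
    exact this
  have hσmul : ∀ a b : A, σ (a * b) = σ a * σ b := by
    intro a b
    refine Subtype.ext (end_ext fun v => ?_)
    rw [hσap]
    show g • (a : AddMonoid.End V) ((b : AddMonoid.End V) (g⁻¹ • v)) =
      ((σ a : A) : AddMonoid.End V) (((σ b : A) : AddMonoid.End V) v)
    rw [hσap, hσap, inv_smul_smul]
  suffices hfix : ∀ a, σ a = a by
    intro a ha v
    have := congrArg (fun l : A => (l : AddMonoid.End V) (g • v)) (hfix ⟨a, ha⟩)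
    simpa [hσap] using this
  by_contra! hne
  obtain ⟨a₀, ha₀⟩ := hne
  -- the fixed and the negated part
  let Ap : AddSubgroup A := AddMonoidHom.ker (σ - AddMonoidHom.id A)
  let Am : AddSubgroup A := AddMonoidHom.ker (σ + AddMonoidHom.id A)
  have hAp : ∀ a, a ∈ Ap ↔ σ a = a := fun a => by
    simp [Ap, AddMonoidHom.mem_ker, sub_eq_zero]
  have hAm : ∀ a, a ∈ Am ↔ σ a = -a := fun a => by
    simp [Am, AddMonoidHom.mem_ker, add_eq_zero_iff_eq_neg]
  have h2A : ∀ a : A, a + a = 0 → a = 0 := fun a h => Subtype.ext (end_ext fun v =>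
    h2 _ (congrArg (fun l : A => (l : AddMonoid.End V) v) h))
  have hinjA : ∀ x a b : A, x ≠ 0 → x * a = x * b → a = b := by
    intro x a b hx he
    refine Subtype.ext (end_ext fun v => ?_)
    by_contra hv
    have h0 : (x : AddMonoid.End V) ((a : AddMonoid.End V) v - (b : AddMonoid.End V) v) = 0 := by
      rw [map_sub, sub_eq_zero]
      exact congrArg (fun l : A => (l : AddMonoid.End V) v) he
    exact hx (Subtype.ext (hk x x.2 _ (sub_ne_zero.2 hv) h0))
  let s : A := σ a₀ - a₀
  have hs0 : s ≠ 0 := sub_ne_zero.2 ha₀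
  have hs : σ s = -s := by simp [s, hσσ]
  have hneg : ∀ a ∈ Am, σ (s * a) = s * a := fun a ha => by
    rw [hσmul, hs, (hAm a).1 ha, neg_mul_neg]
  have hpos : ∀ a ∈ Ap, σ (s * a) = -(s * a) := fun a ha => by
    rw [hσmul, hs, (hAp a).1 ha, neg_mul]
  let i1 : Ap → Am := fun a => ⟨s * a, (hAm _).2 (hpos a a.2)⟩
  let i2 : Am → Ap := fun a => ⟨s * a, (hAp _).2 (hneg a a.2)⟩
  have hc1 : Nat.card Ap = Nat.card Am := le_antisymm
    (Nat.card_le_card_of_injective i1 fun a b e =>
      Subtype.ext (hinjA s _ _ hs0 (congrArg Subtype.val e)))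
    (Nat.card_le_card_of_injective i2 fun a b e =>
      Subtype.ext (hinjA s _ _ hs0 (congrArg Subtype.val e)))
  -- the sum map
  let j : Ap × Am → A := fun q => (q.1 : A) + q.2
  have hjinj : Function.Injective j := by
    rintro ⟨x, y⟩ ⟨x', y'⟩ e
    have e1 : (x : A) + y = x' + y' := e
    have e2 : (x : A) - y = x' - y' := by
      have := congrArg σ e1
      rw [map_add, map_add, (hAp x).1 x.2, (hAp x').1 x'.2, (hAm y).1 y.2, (hAm y').1 y'.2] at this
      simpa [sub_eq_add_neg] using this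
    have e3 : ((x : A) - x') + ((x : A) - x') = 0 := by
      have := congrArg₂ (· + ·) e1 e2
      have e4 : (x : A) + x = x' + x' := by
        calc (x : A) + x = (x : A) + y + ((x : A) - y) := by abel
          _ = (x' : A) + y' + ((x' : A) - y') := this
          _ = (x' : A) + x' := by abel
      rw [sub_add_sub_comm, e4, sub_self]
    have e5 : (x : A) = x' := sub_eq_zero.1 (h2A _ e3)
    have e6 : (y : A) = y' := by rw [e5] at e1; exact add_left_cancel e1
    exact Prod.ext (Subtype.ext e5) (Subtype.ext e6)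
  -- halving
  have hdouble : Function.Surjective (fun a : A => a + a) :=
    Finite.injective_iff_surjective.1 fun a b e => by
      have : (a - b) + (a - b) = 0 := by rw [sub_add_sub_comm]; exact sub_eq_zero.2 e
      exact sub_eq_zero.1 (h2A _ this)
  have hjsurj : Function.Surjective j := by
    intro a
    obtain ⟨x, hx⟩ := hdouble (a + σ a)
    obtain ⟨y, hy⟩ := hdouble (a - σ a)
    simp only at hx hy
    have hxp : x ∈ Ap := by
      rw [hAp]
      have h1 : σ x + σ x = x + x := by rw [← map_add, hx, map_add, hσσ, add_comm]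
      have : (σ x - x) + (σ x - x) = 0 := by rw [sub_add_sub_comm, h1, sub_self]
      exact sub_eq_zero.1 (h2A _ this)
    have hym : y ∈ Am := by
      rw [hAm]
      have h1 : σ y + σ y = -(y + y) := by rw [← map_add, hy, map_sub, hσσ]; abel
      have : (σ y + y) + (σ y + y) = 0 := by
        rw [add_add_add_comm, h1, neg_add_cancel]
      exact eq_neg_of_add_eq_zero_left (h2A _ this)
    refine ⟨(⟨x, hxp⟩, ⟨y, hym⟩), ?_⟩
    show x + y = a
    have : (x + y - a) + (x + y - a) = 0 := by
      calc (x + y - a) + (x + y - a) = (x + x) + (y + y) - (a + a) := by abel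
        _ = 0 := by rw [hx, hy]; abel
    exact sub_eq_zero.1 (h2A _ this)
  have hA : Nat.card A = Nat.card Ap ^ 2 := by
    rw [← Nat.card_eq_of_bijective j ⟨hjinj, hjsurj⟩, Nat.card_prod, ← hc1, pow_two]
  obtain ⟨d, hd⟩ := exists_card_pow hV A hc hk
  rw [hcard, hA, ← pow_mul] at hd
  obtain ⟨e, -, he⟩ : ∃ e ≤ f, Nat.card Ap ^ (2 * d) = p ^ e := ⟨f, le_rfl, hd.symm⟩
  have hd0 : d ≠ 0 := by
    rintro rfl
    rw [mul_zero, pow_zero] at hd
    exact (Nat.one_lt_pow hf.pos.ne' hp.one_lt).ne' hd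
  obtain ⟨i, -, hi⟩ := (Nat.dvd_prime_pow hp).1 (hd ▸ dvd_pow_self (Nat.card Ap) (by omega : 2 * d ≠ 0))
  rw [hi, ← pow_mul] at hd
  have := Nat.pow_right_injective hp.two_le hd
  exact Nat.not_even_iff_odd.2 hf (this ▸ ⟨i * d, by ring⟩)

end Cfsg.Agent.Lib.TriThree76
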