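import Cfsg.Agent.Lib.TriThree76.Fields
import Cfsg.Agent.S1160
import Cfsg.Agent.Lib.Cores.Basic
import Cfsg.Agent.Lib.OddOrder.CyclicSylow
import Cfsg.Agent.Lib.Fg6.TwoFrobenius

/-!
# Linear groups of odd dimension transitive on non-zero vectors: solvable normal subgroups
-/

set_option autoImplicit false
set_option linter.unusedSectionVars false
set_option linter.style.haveILetI false

namespace Cfsg.Agent.Lib.TriThree76

open scoped commutatorElement

universe u v

variable {D : Type u} {V : Type v} [Group D] [Finite D] [AddCommGroup V] [Finite V]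
  [DistribMulAction D V] [FaithfulSMul D V]

/-- A group transitive on the non-zero vectors of a space of order `p ^ f`, `p` and `f` odd. -/
structure Tr (D : Type u) (V : Type v) [Group D] [AddCommGroup V] [DistribMulAction D V] (p f : ℕ) :
    Prop where
  prime : p.Prime
  ne_two : p ≠ 2
  exp : ∀ v : V, p • v = 0
  card : Nat.card V = p ^ f
  odd : Odd f
  trans : ∀ v w : V, v ≠ 0 → w ≠ 0 → ∃ d : D, d • v = w

variable {p f : ℕ} (hT : Tr D V p f)
include hT

theorem Tr.nontrivial : Nontrivial V := by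
  rw [← Finite.one_lt_card_iff_nontrivial, hT.card]
  exact Nat.one_lt_pow hT.odd.pos.ne' hT.prime.one_lt

/-- The commutative ring generated by a commutative normal subgroup has no kernel. -/
theorem Tr.exists_ring (N : Subgroup D) [N.Normal] (hN : ∀ x ∈ N, ∀ y ∈ N, x * y = y * x) :
    ∃ A : Subring (AddMonoid.End V), (∀ x ∈ A, ∀ y ∈ A, x * y = y * x) ∧ NoKer A ∧
      (∀ g ∈ N, toEnd g ∈ A) ∧ (∀ g : D, ∀ a ∈ A, toEnd g * a * toEnd g⁻¹ ∈ A) ∧
      (∀ g : D, (∀ x ∈ N, g * x = x * g) → ∀ a ∈ A, toEnd g * a = a * toEnd g) := by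
  set s : Set (AddMonoid.End V) := (fun g : D => toEnd g) '' (N : Set D) with hs
  have hcomm : ∀ x ∈ Subring.closure s, ∀ y ∈ Subring.closure s, x * y = y * x := by
    intro x hx y hy
    have hs' : ∀ a ∈ s, ∀ b ∈ s, a * b = b * a := by
      rintro _ ⟨a, ha, rfl⟩ _ ⟨b, hb, rfl⟩
      exact end_ext fun v => by
        show a • b • v = b • a • v
        rw [← mul_smul, hN a ha b hb, mul_smul]
    exact congrArg Subtype.val ((Subring.isMulCommutative_closure hs').is_comm.comm ⟨x, hx⟩ ⟨y, hy⟩)
  have hinv : ∀ g : D, (toEnd g⁻¹ : AddMonoid.End V) * toEnd g = 1 := fun g =>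
    end_ext fun v => inv_smul_smul g v
  have hconj : ∀ g : D, ∀ a ∈ Subring.closure s, toEnd g * a * toEnd g⁻¹ ∈ Subring.closure s := by
    intro g a ha
    induction ha using Subring.closure_induction with
    | mem a ha =>
      obtain ⟨x, hx, rfl⟩ := ha
      refine Subring.subset_closure ⟨g * x * g⁻¹, Subgroup.Normal.conj_mem inferInstance x hx g, ?_⟩
      exact end_ext fun v => by
        show (g * x * g⁻¹) • v = g • x • g⁻¹ • v
        rw [mul_smul, mul_smul]
    | zero => rw [mul_zero, zero_mul]; exact zero_mem _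
    | one =>
      rw [mul_one, show (toEnd g : AddMonoid.End V) * toEnd g⁻¹ = 1 from
        end_ext fun v => smul_inv_smul g v]
      exact one_mem _
    | add a b _ _ ea eb => rw [mul_add, add_mul]; exact add_mem ea eb
    | neg a _ ea => rw [mul_neg, neg_mul]; exact neg_mem ea
    | mul a b _ _ ea eb =>
      have := mul_mem ea eb
      rwa [show toEnd g * a * toEnd g⁻¹ * (toEnd g * b * toEnd g⁻¹) =
        toEnd g * a * (toEnd g⁻¹ * toEnd g) * b * toEnd g⁻¹ by simp only [mul_assoc],
        hinv, mul_one, mul_assoc (toEnd g) a b] at this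
  refine ⟨Subring.closure s, hcomm, noKer_of_transitive (D := D) _ hcomm hT.trans ?_,
    fun g hg => Subring.subset_closure ⟨g, hg, rfl⟩, hconj, ?_⟩
  · intro d a ha
    refine ⟨_, hconj d⁻¹ a ha, fun v => ?_⟩
    show a (d • v) = d • d⁻¹ • a (d⁻¹⁻¹ • v)
    rw [inv_inv, smul_inv_smul]
  · intro g hg a ha
    induction ha using Subring.closure_induction with
    | mem a ha =>
      obtain ⟨x, hx, rfl⟩ := ha
      exact end_ext fun v => by
        show g • x • v = x • g • v
        rw [← mul_smul, hg x hx, mul_smul]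
    | zero => rw [mul_zero, zero_mul]
    | one => rw [mul_one, one_mul]
    | add a b _ _ ea eb => rw [mul_add, add_mul, ea, eb]
    | neg a _ ea => rw [mul_neg, neg_mul, ea]
    | mul a b _ _ ea eb => rw [← mul_assoc, ea, mul_assoc, eb, mul_assoc]

/-- A commutative normal subgroup is semiregular. -/
theorem Tr.comm_semiregular (N : Subgroup D) [N.Normal] (hN : ∀ x ∈ N, ∀ y ∈ N, x * y = y * x)
    {g : D} (hg : g ∈ N) {v : V} (hv : v ≠ 0) (hgv : g • v = v) : g = 1 := by
  obtain ⟨A, -, hk, hmem, -, -⟩ := hT.exists_ring N hN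
  have h0 : toEnd g - (1 : AddMonoid.End V) = 0 :=
    hk _ (sub_mem (hmem g hg) A.one_mem) v hv (by
      show g • v - v = 0
      rw [hgv, sub_self])
  refine eq_of_smul_eq_smul fun w : V => ?_
  rw [one_smul]
  exact congrArg (fun l : AddMonoid.End V => l w) (sub_eq_zero.1 h0)

/-- A commutative normal subgroup is cyclic. -/
theorem Tr.comm_cyclic (N : Subgroup D) [N.Normal] (hN : ∀ x ∈ N, ∀ y ∈ N, x * y = y * x) :
    IsCyclic N := by
  obtain ⟨A, hc, hk, hmem, -, -⟩ := hT.exists_ring N hN
  exact isCyclic_of_noKer hT.nontrivial (N := N)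
    (fun g _ h => eq_of_smul_eq_smul fun w : V => (h w).trans (one_smul D w).symm) A hc hk hmem

/-- An involution of a commutative normal subgroup is `-1`. -/
theorem Tr.neg_of_involution (N : Subgroup D) [N.Normal] (hN : ∀ x ∈ N, ∀ y ∈ N, x * y = y * x)
    {g : D} (hg : g ∈ N) (hg2 : g * g = 1) (hg1 : g ≠ 1) (v : V) : g • v = -v := by
  by_contra h
  have h0 : g • v + v ≠ 0 := fun e => h (eq_neg_of_add_eq_zero_left e)
  exact hg1 (hT.comm_semiregular N hN hg h0 (by rw [smul_add, ← mul_smul, hg2, one_smul, add_comm]))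

omit [Finite D] [FaithfulSMul D V] in
/-- The determinant character: `-1` is not in its kernel. -/
theorem Tr.exists_det : ∃ Δ : D →* (ZMod p)ˣ, ∀ g : D, (∀ v : V, g • v = -v) → Δ g ≠ 1 := by
  haveI := Fact.mk hT.prime
  haveI : Module (ZMod p) V := AddCommGroup.zmodModule hT.exp
  haveI : Module.Finite (ZMod p) V := Module.Finite.of_finite
  have hfin : Module.finrank (ZMod p) V = f := by
    have h3 := Module.natCard_eq_pow_finrank (K := ZMod p) (V := V)
    rw [hT.card, Nat.card_zmod] at h3
    exact (Nat.pow_right_injective hT.prime.two_le h3).symm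
  let b := Module.finBasis (ZMod p) V
  let L : D → (V →ₗ[ZMod p] V) := fun d =>
    (DistribSMul.toAddMonoidHom V d).toZModLinearMap p
  let Δ : D →* ZMod p :=
    { toFun := fun d => LinearMap.det (L d)
      map_one' := by
        rw [show L 1 = LinearMap.id from LinearMap.ext fun v => one_smul D v, LinearMap.det_id]
      map_mul' := fun a b => by
        rw [show L (a * b) = (L a).comp (L b) from LinearMap.ext fun v => mul_smul a b v,
          LinearMap.det_comp] }
  refine ⟨Δ.toHomUnits, fun g hg h1 => ?_⟩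
  have h2 : LinearMap.det (L g) = 1 := by
    have := congrArg Units.val h1
    rwa [MonoidHom.coe_toHomUnits, Units.val_one] at this
  have hmat : LinearMap.toMatrix b b (L g) = -1 := by
    ext i j
    rw [LinearMap.toMatrix_apply, show L g (b j) = -(b j) from hg (b j), map_neg, Finsupp.neg_apply,
      Module.Basis.repr_self_apply, Matrix.neg_apply, Matrix.one_apply]
    simp [eq_comm]
  rw [← LinearMap.det_toMatrix b, hmat, Matrix.det_neg, Matrix.det_one, mul_one, Fintype.card_fin,
    hfin, hT.odd.neg_one_pow] at h2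
  haveI : Fact (2 < p) := ⟨by have := hT.prime.two_le; have := hT.ne_two; omega⟩
  exact ZMod.neg_one_ne_one h2

/-- A normal subgroup of prime power order is cyclic. -/
theorem Tr.pgroup_cyclic {s : ℕ} [Fact s.Prime] (P : Subgroup D) [P.Normal] (hP : IsPGroup s P) :
    IsCyclic P := by
  by_cases hs : s = 2
  · subst hs
    obtain ⟨Δ, hΔ⟩ := hT.exists_det
    have hK : (P ⊓ Δ.ker) = ⊥ := by
      by_contra hne
      set K := P ⊓ Δ.ker with hKdef
      haveI : K.Normal := Subgroup.normal_inf_normal _ _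
      have hKp : IsPGroup 2 K := hP.to_le inf_le_left
      haveI : Nontrivial K := (Subgroup.nontrivial_iff_ne_bot K).2 hne
      haveI := hKp.center_nontrivial
      set Z := (Subgroup.center K).map K.subtype with hZ
      haveI : Z.Normal := by rw [hZ]; infer_instance
      obtain ⟨k, hk, hk2⟩ : ∃ k : Subgroup.center K, k ≠ 1 ∧ k * k = 1 := by
        obtain ⟨m, hm⟩ := IsPGroup.iff_card.1 (hKp.to_subgroup (Subgroup.center K))
        have h2 : 2 ∣ Nat.card (Subgroup.center K) := by
          rw [hm]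
          refine dvd_pow_self 2 fun h => ?_
          have := Finite.one_lt_card (α := Subgroup.center K)
          rw [hm, h, pow_zero] at this
          omega
        obtain ⟨k, hk⟩ := exists_prime_orderOf_dvd_card' 2 h2
        refine ⟨k, fun h => ?_, by rw [← pow_two, ← hk, pow_orderOf_eq_one]⟩
        rw [h, orderOf_one] at hk
        omega
      have hkD : ((k : K) : D) ∈ Z := ⟨k, k.2, rfl⟩
      have hneg := hT.neg_of_involution Z (fun x hx y hy => by
        obtain ⟨x', hx', rfl⟩ := hx
        obtain ⟨y', -, rfl⟩ := hy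
        exact congrArg Subtype.val (Subgroup.mem_center_iff.1 hx' y').symm) hkD
        (congrArg Subtype.val (congrArg Subtype.val hk2))
        (fun h => hk (Subtype.ext (Subtype.ext h)))
      exact hΔ _ hneg (Subgroup.mem_inf.1 (k : K).2).2
    refine hT.comm_cyclic P fun x hx y hy => ?_
    have h1 : x * y * (y * x)⁻¹ ∈ P ⊓ Δ.ker := Subgroup.mem_inf.2
      ⟨P.mul_mem (P.mul_mem hx hy) (P.inv_mem (P.mul_mem hy hx)), by
        rw [MonoidHom.mem_ker, map_mul, map_inv, map_mul, map_mul, mul_comm (Δ x) (Δ y),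
          mul_inv_cancel]⟩
    rw [hK, Subgroup.mem_bot, mul_inv_eq_one] at h1
    exact h1
  · haveI : FaithfulSMul P V := ⟨fun h => Subtype.ext (eq_of_smul_eq_smul (α := V) h)⟩
    refine (S1160.result (P := P) (E := V) hs hP hT.prime hT.exp fun a b ha hb => ?_).1
    obtain ⟨d, rfl⟩ := hT.trans a b ha hb
    refine Nat.card_congr
      { toFun := fun g => ⟨⟨d * ((g : P) : D) * d⁻¹,
          Subgroup.Normal.conj_mem inferInstance _ g.1.2 d⟩, ?_⟩
        invFun := fun g => ⟨⟨d⁻¹ * ((g : P) : D) * d, by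
          simpa using Subgroup.Normal.conj_mem inferInstance _ g.1.2 d⁻¹⟩, ?_⟩
        left_inv := fun g => Subtype.ext (Subtype.ext (by simp [mul_assoc]))
        right_inv := fun g => Subtype.ext (Subtype.ext (by simp [mul_assoc])) }
    · rw [MulAction.mem_stabilizer_iff, Subgroup.smul_def]
      have hg : ((g : P) : D) • a = a := g.2
      rw [mul_smul, mul_smul, inv_smul_smul, hg]
    · rw [MulAction.mem_stabilizer_iff, Subgroup.smul_def]
      have hg : ((g : P) : D) • (d • a) = d • a := g.2
      rw [mul_smul, mul_smul, hg, inv_smul_smul]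

/-- A nilpotent normal subgroup is cyclic. -/
theorem Tr.nilpotent_cyclic (F : Subgroup D) [F.Normal] [Group.IsNilpotent F] : IsCyclic F := by
  refine OddOrder.CyclicSylow.isCyclic_of_sylow_cyclic fun s hs Q => ?_
  haveI : Fact s.Prime := ⟨hs⟩
  haveI : (Q : Subgroup F).Normal :=
    Q.normal_of_normalizerCondition Group.normalizerCondition_of_isNilpotent
  haveI : (Q : Subgroup F).Characteristic := Q.characteristic_of_normal inferInstance
  haveI : ((Q : Subgroup F).map F.subtype).Normal := inferInstance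
  exact (MulEquiv.isCyclic ((Q : Subgroup F).equivMapOfInjective _ F.subtype_injective)).2
    (hT.pgroup_cyclic ((Q : Subgroup F).map F.subtype) (Q.2.map _))

/-- The structure of a solvable normal subgroup. -/
theorem Tr.solvable_structure (N : Subgroup D) [N.Normal] [Group.IsSolvable N] :
    ∃ F : Subgroup D, F ≤ N ∧ F.Normal ∧ IsCyclic F ∧
      (∀ g ∈ F, ∀ v : V, v ≠ 0 → g • v = v → g = 1) ∧
      (∀ g ∈ N, (∀ x ∈ F, g * x = x * g) → g ∈ F) ∧
      (∀ g ∈ N, g * g ∈ F → g ∈ F) ∧
      (∀ φ : N ≃* N, ∀ x : N, (x : D) ∈ F → (φ x : D) ∈ F) := by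
  set F := (Cfsg.fittingSubgroup N).map N.subtype with hF
  haveI : F.Normal := by rw [hF]; infer_instance
  haveI := Cores.fittingSubgroup_isNilpotent (G := ↥N)
  haveI : Group.IsNilpotent F := Cores.isNilpotent_map N.subtype inferInstance
  haveI hcyc := hT.nilpotent_cyclic F
  have hcomm : ∀ x ∈ F, ∀ y ∈ F, x * y = y * x := fun x hx y hy =>
    congrArg Subtype.val ((IsCyclic.commGroup (α := F)).mul_comm ⟨x, hx⟩ ⟨y, hy⟩)
  have hle : F ≤ N := Subgroup.map_subtype_le _
  have hcent : ∀ g ∈ N, (∀ x ∈ F, g * x = x * g) → g ∈ F := by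
    intro g hg h
    have h1 : (⟨g, hg⟩ : N) ∈ Cfsg.fittingSubgroup N := by
      refine Cores.centralizer_fittingSubgroup_le (Subgroup.mem_centralizer_iff.2 fun x hx => ?_)
      exact Subtype.ext (h _ ⟨x, hx, rfl⟩).symm
    exact ⟨_, h1, rfl⟩
  refine ⟨F, hle, inferInstance, hcyc, fun g hg v hv h => hT.comm_semiregular F hcomm hg hv h,
    hcent, fun g hg hg2 => hcent g hg fun x hx => ?_, fun φ x hx => ?_⟩
  rotate_left
  · obtain ⟨y, hy, e⟩ := hx
    obtain rfl : y = x := Subtype.ext e
    have h := (Cores.fittingSubgroup_characteristic (G := ↥N)).fixed φ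
    exact ⟨φ y, by rw [← h] at hy; exact hy, rfl⟩
  obtain ⟨A, hc, hk, hmem, hconj, hcom⟩ := hT.exists_ring F hcomm
  have h := commute_of_sq (D := D) hT.prime hT.ne_two hT.card hT.odd A hc hk g (hconj g)
    (hcom (g * g) fun y hy => hcomm _ hg2 y hy) _ (hmem x hx)
  exact eq_of_smul_eq_smul fun v : V => by rw [mul_smul, mul_smul]; exact h v

end Cfsg.Agent.Lib.TriThree76
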