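import Cfsg.Agent.Lib.TriThree76.Witt
import Cfsg.Agent.Lib.TriThree76.Core

/-!
# Normal subgroups of triply transitive groups of degree divisible by three
-/

set_option autoImplicit false
set_option linter.unusedSectionVars false
set_option linter.style.haveILetI false

namespace Cfsg.Agent.Lib.TriThree76

open MulAction

universe u v

variable {G : Type u} [Group G] [Finite G] {Ω : Type v} [Finite Ω] [MulAction G Ω]
  [FaithfulSMul G Ω]

/-- At most two colours, given the same in smaller degrees. -/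
theorem Setting.col_le_of_colLe (hS : Setting G Ω) (ih : ColLe.{v} (Nat.card Ω)) {H : Subgroup G}
    [H.Normal] (hH : H ≠ ⊥) : Nat.card (Col H Ω) ≤ 2 := by
  rcases Nat.even_or_odd (Nat.card Ω) with heven | hodd
  · obtain ⟨M, hMn, hMH, hMne, hMs, hMmin⟩ := hS.exists_minimal hH
    haveI := hMn
    refine (col_le_of_le hMH).trans ?_
    by_cases hk : Nat.card (Col M Ω) ≤ 1
    · omega
    obtain ⟨a, b, c, hab, -, -⟩ := hS.exists_points (hS.two_trans hMne)
    by_cases h3 : 3 ∣ Nat.card (pairH M a b)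
    · exact hS.col_le_of_three_dvd (hS.two_trans hMne) ih hab h3
    · exact (hS.core hMne hMs hMmin heven (by omega) hab (Or.inl h3)).1
  · exact (hS.col_of_odd hH hodd).trans one_le_two

theorem colLe_all : ∀ n : ℕ, ColLe.{v} n := by
  intro n
  induction n using Nat.strong_induction_on with
  | _ n ih =>
    intro Ω _ G H hHn hH hS hlt
    haveI := hHn
    exact hS.col_le_of_colLe (ih _ hlt) hH

/-- At most two colours. -/
theorem Setting.col_le_two (hS : Setting G Ω) {H : Subgroup G} [H.Normal] (hH : H ≠ ⊥) :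
    Nat.card (Col H Ω) ≤ 2 :=
  hS.col_le_of_colLe (colLe_all _) hH

/-- One colour, or `PSL₂`, unless the degree is two modulo four. -/
theorem Setting.three_or_psl (hS : Setting G Ω) {H : Subgroup G} [H.Normal] (hH : H ≠ ⊥)
    (h4 : Nat.card Ω % 4 ≠ 2) : IsMultiplyPretransitive H Ω 3 ∨
      ∃ (N : Subgroup ↥H) (F : Type) (_ : Field F) (_ : Fintype F), N.Normal ∧
        Fintype.card F + 1 = Nat.card Ω ∧
        Nonempty (↥N ≃* Matrix.ProjectiveSpecialLinearGroup (Fin 2) F) := by
  by_cases h1 : Nat.card (Col H Ω) ≤ 1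
  · exact Or.inl (three_of_col_le_one hS h1)
  right
  rcases Nat.even_or_odd (Nat.card Ω) with heven | hodd
  swap
  · exact absurd (hS.col_of_odd hH hodd) h1
  have h40 : Nat.card Ω % 4 = 0 := by
    obtain ⟨i, hi⟩ := heven
    omega
  obtain ⟨M, hMn, hMH, hMne, hMs, hMmin⟩ := hS.exists_minimal hH
  haveI := hMn
  have hle := col_le_of_le (Ω := Ω) hMH
  have hle2 := hS.col_le_two hMne
  have hk : Nat.card (Col M Ω) = 2 := by omega
  obtain ⟨a, b, c, hab, -, -⟩ := hS.exists_points (hS.two_trans hMne)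
  obtain ⟨-, F, fF, ffF, hcard, ⟨e⟩⟩ :=
    hS.core hMne hMs hMmin heven hk.ge hab (Or.inr (hS.odd_stab hMne hk h40 a))
  exact ⟨M.subgroupOf H, F, fF, ffF, inferInstance, hcard,
    ⟨(Subgroup.subgroupOfEquivOfLe hMH).trans e⟩⟩

end Cfsg.Agent.Lib.TriThree76
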