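import Cfsg.Agent.Lib.TriThree76.Colours

/-!
# Witt's reduction at the prime three
-/

set_option autoImplicit false
set_option linter.unusedSectionVars false
set_option linter.style.haveILetI false

namespace Cfsg.Agent.Lib.TriThree76

open MulAction

universe u v

/-- At most two colours in all degrees below `n`. -/
def ColLe.{w} (n : ℕ) : Prop :=
  ∀ (Ω : Type w) [Finite Ω] (G : Subgroup (Equiv.Perm Ω)) (H : Subgroup G), H.Normal → H ≠ ⊥ →
    Setting G Ω → Nat.card Ω < n → Nat.card (Col H Ω) ≤ 2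

variable {G : Type u} [Group G] [Finite G] {Ω : Type v} [Finite Ω] [MulAction G Ω]
  [FaithfulSMul G Ω]

/-- The three point stabiliser in `H`. -/
abbrev tripH (H : Subgroup G) (a b c : Ω) : Subgroup G := pairH H a b ⊓ stabilizer G c

theorem mem_tripH {H : Subgroup G} {a b c : Ω} {g : G} :
    g ∈ tripH H a b c ↔ g ∈ H ∧ g • a = a ∧ g • b = b ∧ g • c = c := by
  rw [Subgroup.mem_inf, mem_pairH, mem_stabilizer_iff, and_assoc, and_assoc]

theorem card_pairH (H : Subgroup G) (a b c : Ω) :
    Nat.card (MulAction.orbit (pairH H a b) c) * Nat.card (tripH H a b c) = Nat.card (pairH H a b) := by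
  rw [← Nat.card_congr (orbitProdStabilizerEquivGroup (pairH H a b) c), Nat.card_prod]
  congr 1
  refine Nat.card_congr
    { toFun := fun g => ⟨⟨g, (Subgroup.mem_inf.1 g.2).1⟩, (Subgroup.mem_inf.1 g.2).2⟩
      invFun := fun g => ⟨(g : pairH H a b), Subgroup.mem_inf.2 ⟨(g : pairH H a b).2, g.2⟩⟩
      left_inv := fun g => rfl
      right_inv := fun g => rfl }

theorem tripH_map {H : Subgroup G} [H.Normal] {a b c x y z : Ω} {g : G} (ga : g • a = x)
    (gb : g • b = y) (gc : g • c = z) :
    (tripH H a b c).map (MulAut.conj g).toMonoidHom = tripH H x y z := by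
  ext e
  simp only [Subgroup.mem_map, MulEquiv.coe_toMonoidHom, MulAut.conj_apply, mem_tripH]
  constructor
  · rintro ⟨e, ⟨he, ea, eb, ec⟩, rfl⟩
    exact ⟨Subgroup.Normal.conj_mem inferInstance _ he g,
      by rw [← ga, mul_smul, mul_smul, inv_smul_smul, ea],
      by rw [← gb, mul_smul, mul_smul, inv_smul_smul, eb],
      by rw [← gc, mul_smul, mul_smul, inv_smul_smul, ec]⟩
  · rintro ⟨he, ea, eb, ec⟩
    exact ⟨g⁻¹ * e * g,
      ⟨by simpa using Subgroup.Normal.conj_mem inferInstance _ he g⁻¹,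
        by rw [mul_smul, mul_smul, ga, ea, inv_smul_eq_iff, ga],
        by rw [mul_smul, mul_smul, gb, eb, inv_smul_eq_iff, gb],
        by rw [mul_smul, mul_smul, gc, ec, inv_smul_eq_iff, gc]⟩, by group⟩

/-- Sylow subgroups inside a subgroup are conjugate there. -/
theorem exists_conj_sylow {p : ℕ} [Fact p.Prime] (E R R' : Subgroup G) (hR : R ≤ E) (hR' : R' ≤ E)
    (hc : Nat.card R = p ^ (Nat.card E).factorization p)
    (hc' : Nat.card R' = p ^ (Nat.card E).factorization p) :
    ∃ h ∈ E, R'.map (MulAut.conj h).toMonoidHom = R := by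
  let P : Sylow p E := Sylow.ofCard (R.subgroupOf E)
    (by rw [Nat.card_congr (Subgroup.subgroupOfEquivOfLe hR).toEquiv, hc])
  let P' : Sylow p E := Sylow.ofCard (R'.subgroupOf E)
    (by rw [Nat.card_congr (Subgroup.subgroupOfEquivOfLe hR').toEquiv, hc'])
  obtain ⟨h, hh⟩ := MulAction.exists_smul_eq E P' P
  refine ⟨h, h.2, ?_⟩
  have h1 : (R'.subgroupOf E).map (MulAut.conj h).toMonoidHom = R.subgroupOf E := by
    have := congrArg (fun S : Sylow p E => (S : Subgroup E)) hh
    rwa [Sylow.coe_subgroup_smul] at this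
  ext x
  constructor
  · rintro ⟨y, hy, rfl⟩
    have : (MulAut.conj h) ⟨y, hR' hy⟩ ∈ R.subgroupOf E := h1 ▸ ⟨_, hy, rfl⟩
    exact this
  · intro hx
    have hmem : (⟨x, hR hx⟩ : E) ∈ (R'.subgroupOf E).map (MulAut.conj h).toMonoidHom := h1.symm ▸ hx
    obtain ⟨y, hy, e⟩ := hmem
    exact ⟨y, hy, congrArg Subtype.val e⟩

variable (hS : Setting G Ω) {H : Subgroup G} [H.Normal] (h2 : IsMultiplyPretransitive H Ω 2)
include hS h2

/-- If `3` divides the two-point stabiliser, there are at most two colours. -/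
theorem Setting.col_le_of_three_dvd (ih : ColLe.{v} (Nat.card Ω)) {a b : Ω} (hab : a ≠ b)
    (h3 : 3 ∣ Nat.card (pairH H a b)) : Nat.card (Col H Ω) ≤ 2 := by
  classical
  by_contra hk
  push Not at hk
  haveI := Fintype.ofFinite Ω
  haveI := Fact.mk Nat.prime_three
  obtain ⟨c, hc⟩ : ∃ c, c ∉ ({a, b} : Finset Ω) := by
    by_contra! h
    have h1 : (Finset.univ : Finset Ω).card ≤ ({a, b} : Finset Ω).card :=
      Finset.card_le_card fun x _ => h x
    rw [Finset.card_univ, Finset.card_pair hab, ← Nat.card_eq_fintype_card] at h1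
    have := hS.big
    omega
  simp only [Finset.mem_insert, Finset.mem_singleton, not_or] at hc
  obtain ⟨hca, hcb⟩ : c ≠ a ∧ c ≠ b := hc
  have hm : ∀ x y z : Ω, x ≠ y → x ≠ z → y ≠ z →
      ¬ 3 ∣ Nat.card (MulAction.orbit (pairH H x y) z) :=
    fun x y z h1 h2' h3' => hS.not_three_dvd_orbit h2 h1 h2' h3'
  have hfac : ∀ z : Ω, a ≠ z → b ≠ z →
      (Nat.card (pairH H a b)).factorization 3 = (Nat.card (tripH H a b z)).factorization 3 := by
    intro z h1 h2'
    haveI : Nonempty (MulAction.orbit (pairH H a b) z) := ⟨⟨z, MulAction.mem_orbit_self z⟩⟩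
    rw [← card_pairH H a b z, Nat.factorization_mul Nat.card_pos.ne' Nat.card_pos.ne',
      Finsupp.add_apply, Nat.factorization_eq_zero_of_not_dvd (hm a b z hab h1 h2'), zero_add]
  let S : Sylow 3 (tripH H a b c) := default
  set R := (S : Subgroup (tripH H a b c)).map (tripH H a b c).subtype with hRdef
  have hRle : R ≤ tripH H a b c := Subgroup.map_subtype_le _
  have hRcard : Nat.card R = 3 ^ (Nat.card (pairH H a b)).factorization 3 := by
    rw [hRdef, Subgroup.card_map_of_injective (Subgroup.subtype_injective _),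
      S.card_eq_multiplicity, hfac c hca.symm hcb.symm]
  have hR1 : R ≠ ⊥ := by
    intro h
    rw [h, Subgroup.card_bot] at hRcard
    have := Nat.Prime.factorization_pos_of_dvd Nat.prime_three Nat.card_pos.ne' h3
    exact absurd hRcard.symm (Nat.one_lt_pow this.ne' (by norm_num)).ne'
  set N := Subgroup.normalizer (R : Set G) with hN
  let Fx := {x : Ω // ∀ r ∈ R, r • x = x}
  have hRab : ∀ r ∈ R, r ∈ H ∧ r • a = a ∧ r • b = b ∧ r • c = c := fun r hr =>
    mem_tripH.1 (hRle hr)
  -- Witt
  have witt : ∀ (x y z : Ω), (∀ r ∈ R, r • x = x) → (∀ r ∈ R, r • y = y) → (∀ r ∈ R, r • z = z) →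
      ∀ g : G, g • a = x → g • b = y → g • c = z →
        ∃ h ∈ H, h * g ∈ N ∧ h • x = x ∧ h • y = y ∧ h • z = z := by
    intro x y z hx hy hz g ga gb gc
    set R' := R.map (MulAut.conj g).toMonoidHom with hR'
    have hE : (tripH H a b c).map (MulAut.conj g).toMonoidHom = tripH H x y z := tripH_map ga gb gc
    have hcardE : Nat.card (tripH H x y z) = Nat.card (tripH H a b c) := by
      rw [← hE, Subgroup.card_map_of_injective (MulAut.conj g).injective]
    have hle : R ≤ tripH H x y z := fun r hr =>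
      mem_tripH.2 ⟨(hRab r hr).1, hx r hr, hy r hr, hz r hr⟩
    have hle' : R' ≤ tripH H x y z := hE ▸ Subgroup.map_mono hRle
    have hc : Nat.card R = 3 ^ (Nat.card (tripH H x y z)).factorization 3 := by
      rw [hRcard, hcardE, hfac c hca.symm hcb.symm]
    obtain ⟨h, hh, hconj⟩ := exists_conj_sylow _ R R' hle hle' hc
      (by rw [hR', Subgroup.card_map_of_injective (MulAut.conj g).injective, hc])
    obtain ⟨hH, h1, h2', h3'⟩ := mem_tripH.1 hh
    refine ⟨h, hH, ?_, h1, h2', h3'⟩
    have hmap : R.map (MulAut.conj (h * g)).toMonoidHom = R := by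
      rw [map_mul]
      conv_rhs => rw [← hconj, hR', Subgroup.map_map]
      rfl
    rw [hN, Subgroup.mem_normalizer_iff]
    intro w
    constructor
    · intro hw
      exact hmap ▸ Subgroup.mem_map_of_mem _ hw
    · intro hw
      have hw' : h * g * w * (h * g)⁻¹ ∈ (R.map (MulAut.conj (h * g)).toMonoidHom : Subgroup G) :=
        hmap.symm ▸ hw
      obtain ⟨w', hw1, e⟩ := hw'
      have : w' = w := (MulAut.conj (h * g)).injective e
      exact this ▸ hw1
  have hNFx : ∀ n ∈ N, ∀ x : Fx, ∀ r ∈ R, r • n • (x : Ω) = n • (x : Ω) := by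
    intro n hn x r hr
    have h1 : n⁻¹ * r * n ∈ R := by
      have := (Subgroup.mem_normalizer_iff.1 (N.inv_mem hn) r).1 hr
      simpa using this
    have := x.2 _ h1
    rwa [mul_smul, mul_smul, inv_smul_eq_iff] at this
  letI : MulAction N Fx :=
    { smul := fun n x => ⟨(n : G) • (x : Ω), hNFx n n.2 x⟩
      one_smul := fun x => Subtype.ext (one_smul G (x : Ω))
      mul_smul := fun n m x => Subtype.ext (mul_smul (n : G) (m : G) (x : Ω)) }
  have hval : ∀ (n : N) (x : Fx), ((n • x : Fx) : Ω) = (n : G) • (x : Ω) := fun n x => rfl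
  set ρ : N →* Equiv.Perm Fx := MulAction.toPermHom N Fx with hρ
  set G' := ρ.range
  set H' : Subgroup G' := (H.subgroupOf N).map ρ.rangeRestrict with hH'
  haveI : H'.Normal := Subgroup.Normal.map inferInstance _ ρ.rangeRestrict_surjective
  let pa : Fx := ⟨a, fun r hr => (hRab r hr).2.1⟩
  let pb : Fx := ⟨b, fun r hr => (hRab r hr).2.2.1⟩
  let pc : Fx := ⟨c, fun r hr => (hRab r hr).2.2.2⟩
  -- every colour occurs
  have hcover : ∀ q : Col H Ω, ∃ c' : Fx, ∃ (h1 : a ≠ (c' : Ω)) (h2' : b ≠ (c' : Ω)),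
      colour H (tri hab h1 h2') = q := by
    intro q
    obtain ⟨T, rfl⟩ := colour_surjective H q
    obtain ⟨c', hac', hbc', hT⟩ := hS.exists_rep h2 hab T
    obtain ⟨g, ga, gb, gc⟩ := hS.exists_triple hab hca.symm hcb.symm hab hac' hbc'
    set R' := R.map (MulAut.conj g).toMonoidHom with hR'
    have hle' : R' ≤ tripH H a b c' := (tripH_map (H := H) ga gb gc) ▸ Subgroup.map_mono hRle
    obtain ⟨e, he, hconj⟩ := exists_conj_sylow (pairH H a b) R R' (hRle.trans inf_le_left)
      (hle'.trans inf_le_left) hRcard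
      (by rw [hR', Subgroup.card_map_of_injective (MulAut.conj g).injective, hRcard])
    obtain ⟨heH, hea, heb⟩ := mem_pairH.1 he
    have hfix : ∀ r ∈ R, r • e • c' = e • c' := by
      intro r hr
      rw [← hconj] at hr
      obtain ⟨r', hr', rfl⟩ := hr
      show (e * r' * e⁻¹) • e • c' = e • c'
      rw [mul_smul, mul_smul, inv_smul_smul, (mem_tripH.1 (hle' hr')).2.2.2]
    refine ⟨⟨e • c', hfix⟩, ?_, ?_, ?_⟩
    · rw [← hea]; exact fun h => hac' (smul_left_cancel e h)
    · rw [← heb]; exact fun h => hbc' (smul_left_cancel e h)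
    · rw [← hT]
      exact colour_eq_iff.2 ⟨e, heH, fun i => by fin_cases i <;> [exact hea; exact heb; rfl]⟩
  -- the colours of `H'`
  let ι : (Fin 3 ↪ Fx) → (Fin 3 ↪ Ω) := fun T => T.trans (Function.Embedding.subtype _)
  let f : Col H' Fx → Col H Ω := Quotient.map' ι (by
    rintro T T' ⟨⟨x, hx⟩, hh⟩
    obtain ⟨n, hn, rfl⟩ := hx
    refine ⟨⟨(n : G), hn⟩, Function.Embedding.ext fun i => ?_⟩
    have := congrArg (fun S : Fin 3 ↪ Fx => ((S i : Fx) : Ω)) hh
    exact this)
  have hf : Function.Surjective f := by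
    intro q
    obtain ⟨c', h1, h2', rfl⟩ := hcover q
    refine ⟨colour H' (tri (x := pa) (y := pb) (z := c') (fun h => hab (congrArg Subtype.val h))
      (fun h => h1 (congrArg Subtype.val h)) (fun h => h2' (congrArg Subtype.val h))), ?_⟩
    refine congrArg (colour H) ?_
    ext i
    fin_cases i <;> rfl
  -- the setting
  have hinj3 : Function.Injective (Subtype.val : Fx → Ω) := Subtype.val_injective
  have h3' : IsMultiplyPretransitive G' Fx 3 := by
    refine ⟨fun T T' => ?_⟩
    have key : ∀ T : Fin 3 ↪ Fx, ∃ n : N, n • pa = T 0 ∧ n • pb = T 1 ∧ n • pc = T 2 := by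
      intro T
      obtain ⟨g, ga, gb, gc⟩ := hS.exists_triple hab hca.symm hcb.symm
        (hinj3.ne (T.injective.ne (by decide : (0 : Fin 3) ≠ 1)))
        (hinj3.ne (T.injective.ne (by decide : (0 : Fin 3) ≠ 2)))
        (hinj3.ne (T.injective.ne (by decide : (1 : Fin 3) ≠ 2)))
      obtain ⟨h, hH, hmem, h1, h2', h3'⟩ := witt _ _ _ (T 0).2 (T 1).2 (T 2).2 g ga gb gc
      exact ⟨⟨h * g, hmem⟩, Subtype.ext (by rw [hval]; show (h * g) • a = _; rw [mul_smul, ga, h1]),
        Subtype.ext (by rw [hval]; show (h * g) • b = _; rw [mul_smul, gb, h2']),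
        Subtype.ext (by rw [hval]; show (h * g) • c = _; rw [mul_smul, gc, h3'])⟩
    obtain ⟨n, n0, n1, n2⟩ := key T
    obtain ⟨n', n0', n1', n2'⟩ := key T'
    refine ⟨⟨ρ (n' * n⁻¹), _, rfl⟩, Function.Embedding.ext fun i => ?_⟩
    show (n' * n⁻¹) • T i = T' i
    fin_cases i
    · show (n' * n⁻¹) • T 0 = T' 0
      rw [← n0, mul_smul, inv_smul_smul, n0']
    · show (n' * n⁻¹) • T 1 = T' 1
      rw [← n1, mul_smul, inv_smul_smul, n1']
    · show (n' * n⁻¹) • T 2 = T' 2
      rw [← n2, mul_smul, inv_smul_smul, n2']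
  have hRp : IsPGroup 3 R := S.isPGroup'.map _
  have hfixcard : Nat.card (MulAction.fixedPoints R Ω) = Nat.card Fx :=
    Nat.card_congr (Equiv.subtypeEquivRight fun x =>
      ⟨fun h r hr => h ⟨r, hr⟩, fun h r => h r r.2⟩)
  have hmod := hRp.card_modEq_card_fixedPoints (α := Ω)
  rw [hfixcard] at hmod
  have hthree : 3 ∣ Nat.card Fx := (Nat.modEq_zero_iff_dvd).1
    (hmod.symm.trans (Nat.modEq_zero_iff_dvd.2 hS.three))
  have hbig : 3 < Nat.card Fx := by
    by_contra hle
    push Not at hle
    have hcol : ∀ q : Col H Ω, q = colour H (tri hab hca.symm hcb.symm) := by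
      intro q
      obtain ⟨c', h1, h2', rfl⟩ := hcover q
      have : (c' : Ω) = c := by
        by_contra hne
        have h4 : ({pa, pb, pc, c'} : Finset Fx).card ≤ 3 :=
          (Finset.card_le_univ _).trans (by rwa [← Nat.card_eq_fintype_card])
        rw [Finset.card_insert_of_notMem, Finset.card_insert_of_notMem,
          Finset.card_pair (fun h : pc = c' => hne (congrArg Subtype.val h).symm)] at h4
        · omega
        · simp only [Finset.mem_insert, Finset.mem_singleton]
          rintro (h | h)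
          · exact hcb.symm (congrArg Subtype.val h)
          · exact h2' (congrArg Subtype.val h)
        · simp only [Finset.mem_insert, Finset.mem_singleton]
          rintro (h | h | h)
          · exact hab (congrArg Subtype.val h)
          · exact hca.symm (congrArg Subtype.val h)
          · exact h1 (congrArg Subtype.val h)
      refine congrArg (colour H) ?_
      ext i
      fin_cases i <;> [rfl; rfl; exact this]
    haveI : Subsingleton (Col H Ω) := ⟨fun q q' => (hcol q).trans (hcol q').symm⟩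
    have := Finite.card_le_one_iff_subsingleton.2 (inferInstance : Subsingleton (Col H Ω))
    omega
  have hlt : Nat.card Fx < Nat.card Ω := by
    rw [Nat.card_eq_fintype_card, Nat.card_eq_fintype_card]
    by_contra hle
    push Not at hle
    have hsurj : Function.Surjective (Subtype.val : Fx → Ω) :=
      ((Fintype.bijective_iff_injective_and_card _).2
        ⟨hinj3, le_antisymm (Fintype.card_le_of_injective _ hinj3) hle⟩).surjective
    apply hR1
    rw [eq_bot_iff]
    intro r hr
    rw [Subgroup.mem_bot]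
    refine eq_of_smul_eq_smul fun x : Ω => ?_
    obtain ⟨y, rfl⟩ := hsurj x
    rw [one_smul, y.2 r hr]
  have hH'ne : H' ≠ ⊥ := by
    intro hbot
    obtain ⟨g, hgH, ga, gb, gc⟩ := hS.rotate h2 hab hca.symm hcb.symm
    obtain ⟨h, hH, hmem, h1, -, -⟩ := witt _ _ _ pb.2 pc.2 pa.2 g ga gb gc
    have hx : ρ.rangeRestrict ⟨h * g, hmem⟩ ∈ H' := ⟨_, H.mul_mem hH hgH, rfl⟩
    rw [hbot, Subgroup.mem_bot] at hx
    have := congrArg (fun e : G' => ((e : Equiv.Perm Fx) pa : Ω)) hx
    simp only [OneMemClass.coe_one, Equiv.Perm.one_apply] at this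
    have e1 : (h * g) • a = a := this
    rw [mul_smul, ga, h1] at e1
    exact hab e1.symm
  have := ih Fx G' H' inferInstance hH'ne ⟨h3', hthree, hbig⟩ hlt
  exact absurd ((Nat.card_le_card_of_surjective f hf).trans this) (by omega)

end Cfsg.Agent.Lib.TriThree76
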